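import Mathlib

set_option autoImplicit false

namespace Cfsg.Agent.Lib.Helper13.Symp

variable {F V : Type*} [Field F] [AddCommGroup V] [Module F V]

/-- The linear map `v ↦ v + c * B v u • u`. -/
def transvLin (B : LinearMap.BilinForm F V) (u : V) (c : F) : V →ₗ[F] V :=
  LinearMap.id + (c • B.flip u).smulRight u

theorem transvLin_apply (B : LinearMap.BilinForm F V) (u : V) (c : F) (v : V) :
    transvLin B u c v = v + (c * B v u) • u := by
  simp [transvLin]

theorem transvLin_comp (B : LinearMap.BilinForm F V) (hA : B.IsAlt) (u : V) (c d : F) :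
    (transvLin B u c).comp (transvLin B u d) = transvLin B u (c + d) := by
  ext v
  simp only [LinearMap.comp_apply, transvLin_apply, map_add, map_smul, hA u, mul_zero]
  module

theorem transvLin_zero (B : LinearMap.BilinForm F V) (u : V) :
    transvLin B u 0 = LinearMap.id := by
  ext v
  simp [transvLin_apply]

/-- The transvection `v ↦ v + c * B v u • u` of an alternating form as a linear equivalence. -/
def transv (B : LinearMap.BilinForm F V) (hA : B.IsAlt) (u : V) (c : F) : V ≃ₗ[F] V :=
  LinearEquiv.ofLinearMap (transvLin B u c) (transvLin B u (-c))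
    (by rw [transvLin_comp B hA, add_neg_cancel, transvLin_zero])
    (by rw [transvLin_comp B hA, neg_add_cancel, transvLin_zero])

theorem transv_apply (B : LinearMap.BilinForm F V) (hA : B.IsAlt) (u : V) (c : F) (v : V) :
    transv B hA u c v = v + (c * B v u) • u :=
  transvLin_apply B u c v

theorem transv_isometry (B : LinearMap.BilinForm F V) (hA : B.IsAlt) (u : V) (c : F) (v w : V) :
    B (transv B hA u c v) (transv B hA u c w) = B v w := by
  simp only [transv_apply, map_add, map_smul, LinearMap.add_apply, LinearMap.smul_apply,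
    smul_eq_mul, hA u]
  have := hA.neg_eq w u
  rw [← this]
  ring

/-- The subgroup generated by the transvections. -/
def T (B : LinearMap.BilinForm F V) (hA : B.IsAlt) : Subgroup (V ≃ₗ[F] V) :=
  Subgroup.closure {t | ∃ u c, t = transv B hA u c}

theorem T_isometry (B : LinearMap.BilinForm F V) (hA : B.IsAlt) {g : V ≃ₗ[F] V}
    (hg : g ∈ T B hA) : ∀ v w, B (g v) (g w) = B v w := by
  induction hg using Subgroup.closure_induction with
  | mem t ht =>
    obtain ⟨u, c, rfl⟩ := ht
    exact transv_isometry B hA u c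
  | one => intro v w; rfl
  | mul a b _ _ ha hb =>
    intro v w
    rw [LinearEquiv.mul_apply, LinearEquiv.mul_apply, ha, hb]
  | inv a _ ha =>
    intro v w
    have := ha (a⁻¹ v) (a⁻¹ w)
    rw [← this]
    congr 2 <;> exact (LinearEquiv.apply_symm_apply a _)

theorem step1 (B : LinearMap.BilinForm F V) (hA : B.IsAlt) (X₀ : Submodule F V) (x y : V)
    (hxy : ∀ z ∈ X₀, B z (y - x) = 0) (h : B x y ≠ 0) :
    ∃ t ∈ T B hA, (∀ z ∈ X₀, t z = z) ∧ t x = y := by
  refine ⟨transv B hA (y - x) (B x y)⁻¹, Subgroup.subset_closure ⟨_, _, rfl⟩, ?_, ?_⟩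
  · intro z hz
    rw [transv_apply, hxy z hz]
    simp
  · rw [transv_apply, map_sub, hA x, sub_zero, inv_mul_cancel₀ h, one_smul]
    abel

theorem step2 [FiniteDimensional F V] (B : LinearMap.BilinForm F V) (hB : B.Nondegenerate)
    (hA : B.IsAlt) (X₀ : Submodule F V) (x y : V) (hx : x ∉ X₀) (hy : y ∉ X₀)
    (hxy : ∀ z ∈ X₀, B z (y - x) = 0) :
    ∃ t ∈ T B hA, (∀ z ∈ X₀, t z = z) ∧ t x = y := by
  by_cases h : B x y = 0
  swap
  · exact step1 B hA X₀ x y hxy h
  have hperp := LinearMap.BilinForm.orthogonal_orthogonal hB hA.isRefl X₀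
  have hx' : ∃ w ∈ B.orthogonal X₀, B w x ≠ 0 := by
    by_contra hcon
    apply hx
    rw [← hperp]
    intro w hw
    by_contra h0
    exact hcon ⟨w, hw, h0⟩
  have hy' : ∃ w ∈ B.orthogonal X₀, B w y ≠ 0 := by
    by_contra hcon
    apply hy
    rw [← hperp]
    intro w hw
    by_contra h0
    exact hcon ⟨w, hw, h0⟩
  obtain ⟨w₁, hw₁, h₁⟩ := hx'
  obtain ⟨w₂, hw₂, h₂⟩ := hy'
  have hex : ∃ w ∈ B.orthogonal X₀, B w x ≠ 0 ∧ B w y ≠ 0 := by
    by_cases h3 : B w₁ y = 0
    · by_cases h4 : B w₂ x = 0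
      · refine ⟨w₁ + w₂, add_mem hw₁ hw₂, ?_, ?_⟩
        · rw [map_add, LinearMap.add_apply, h4, add_zero]; exact h₁
        · rw [map_add, LinearMap.add_apply, h3, zero_add]; exact h₂
      · exact ⟨w₂, hw₂, h4, h₂⟩
    · exact ⟨w₁, hw₁, h₁, h3⟩
  obtain ⟨w, hw, hwx, hwy⟩ := hex
  have hw' : ∀ z ∈ X₀, B z w = 0 := fun z hz => hw z hz
  obtain ⟨t₁, ht₁, hfix₁, hx₁⟩ := step1 B hA X₀ x (x + w)
    (by intro z hz; rw [add_sub_cancel_left]; exact hw' z hz)
    (by
      rw [map_add, hA x, zero_add, ← hA.neg_eq w x]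
      exact neg_ne_zero.2 hwx)
  obtain ⟨t₂, ht₂, hfix₂, hx₂⟩ := step1 B hA X₀ (x + w) y
    (by
      intro z hz
      have e : y - (x + w) = (y - x) - w := by abel
      rw [e, map_sub, hxy z hz, hw' z hz, sub_zero])
    (by rw [map_add, LinearMap.add_apply, h, zero_add]; exact hwy)
  refine ⟨t₂ * t₁, mul_mem ht₂ ht₁, fun z hz => ?_, ?_⟩
  · rw [LinearEquiv.mul_apply, hfix₁ z hz, hfix₂ z hz]
  · rw [LinearEquiv.mul_apply, hx₁, hx₂]

/-- Witt extension by a product of transvections, on the span of a finite set. -/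
theorem witt_T [FiniteDimensional F V] (B : LinearMap.BilinForm F V) (hB : B.Nondegenerate)
    (hA : B.IsAlt) (f : V →ₗ[F] V) (s : Finset V)
    (hf : ∀ x ∈ Submodule.span F (s : Set V), ∀ x' ∈ Submodule.span F (s : Set V),
      B (f x) (f x') = B x x')
    (hinj : ∀ x ∈ Submodule.span F (s : Set V), f x = 0 → x = 0) :
    ∃ g ∈ T B hA, ∀ x ∈ Submodule.span F (s : Set V), g x = f x := by
  classical
  induction s using Finset.induction_on with
  | empty =>
    refine ⟨1, one_mem _, ?_⟩
    intro x hx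
    simp only [Finset.coe_empty, Submodule.span_empty, Submodule.mem_bot] at hx
    subst hx
    simp
  | insert a s ha ih =>
    have hle : Submodule.span F (s : Set V) ≤ Submodule.span F ((insert a s : Finset V) : Set V) :=
      Submodule.span_mono (by simp)
    have hamem : a ∈ Submodule.span F ((insert a s : Finset V) : Set V) :=
      Submodule.subset_span (by simp)
    obtain ⟨g₀, hg₀, hg₀f⟩ := ih (fun x hx x' hx' => hf x (hle hx) x' (hle hx'))
      (fun x hx => hinj x (hle hx))
    have key : ∀ g : V ≃ₗ[F] V, (∀ x ∈ Submodule.span F (s : Set V), g x = f x) → g a = f a →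
        ∀ x ∈ Submodule.span F ((insert a s : Finset V) : Set V), g x = f x := by
      intro g hg1 hg2 x hx
      rw [Finset.coe_insert, Submodule.span_insert] at hx
      obtain ⟨p, hp, q, hq, rfl⟩ := Submodule.mem_sup.1 hx
      obtain ⟨c, rfl⟩ := Submodule.mem_span_singleton.1 hp
      rw [map_add, map_add, map_smul, map_smul, hg2, hg1 q hq]
    by_cases hamem' : a ∈ Submodule.span F (s : Set V)
    · exact ⟨g₀, hg₀, key g₀ hg₀f (hg₀f a hamem')⟩
    · have hiso := T_isometry B hA hg₀
      set y := g₀.symm (f a) with hydef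
      have hgy : g₀ y = f a := LinearEquiv.apply_symm_apply g₀ _
      have hy : y ∉ Submodule.span F (s : Set V) := by
        intro hy
        have e1 : f y = f a := by rw [← hg₀f y hy, hgy]
        have e2 : f (a - y) = 0 := by rw [map_sub, e1, sub_self]
        have e3 := hinj (a - y) (sub_mem hamem (hle hy)) e2
        apply hamem'
        rw [sub_eq_zero.1 e3]
        exact hy
      have hxy : ∀ z ∈ Submodule.span F (s : Set V), B z (y - a) = 0 := by
        intro z hz
        rw [map_sub, ← hiso z y, hgy, hg₀f z hz, hf z (hle hz) a hamem, sub_self]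
      obtain ⟨t, ht, hfix, hta⟩ := step2 B hB hA _ a y hamem' hy hxy
      refine ⟨g₀ * t, mul_mem hg₀ ht, key _ ?_ ?_⟩
      · intro x hx
        rw [LinearEquiv.mul_apply, hfix x hx, hg₀f x hx]
      · rw [LinearEquiv.mul_apply, hta, hgy]

end Cfsg.Agent.Lib.Helper13.Symp
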