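import Mathlib
import Cfsg.Prelude.Def_ClassicalGeometry
import Cfsg.Agent.Lib.Helper13.Symp

set_option autoImplicit false

namespace Cfsg.Agent.Lib.Helper13.SympMat

open Matrix Cfsg.Agent.Lib.Helper13

variable {F : Type*} [Field F] (m : ℕ)

/-- The symplectic form as a bilinear form. -/
noncomputable def form (m : ℕ) (F : Type*) [Field F] :
    LinearMap.BilinForm F (Fin m ⊕ Fin m → F) :=
  Matrix.toBilin' (Matrix.J (Fin m) F)

theorem form_apply (u v : Fin m ⊕ Fin m → F) : form m F u v = Cfsg.sympForm m F u v :=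
  Matrix.toBilin'_apply' _ _ _

theorem form_alt : (form m F).IsAlt := by
  intro u
  rw [form_apply, Cfsg.sympForm, Matrix.J, Matrix.fromBlocks_mulVec]
  simp only [dotProduct, Fintype.sum_sum_type, Sum.elim_inl, Sum.elim_inr, Matrix.zero_mulVec,
    Matrix.neg_mulVec, Matrix.one_mulVec, zero_add, add_zero, Pi.neg_apply, Function.comp_apply]
  rw [← Finset.sum_add_distrib]
  apply Finset.sum_eq_zero
  intro i _
  ring

theorem form_nondeg : (form m F).Nondegenerate :=
  LinearMap.BilinForm.nondegenerate_toBilin'_iff_det_ne_zero.mpr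
    (Matrix.isUnit_det_J (Fin m) F).ne_zero

theorem transvection_mulVec (u : Fin m ⊕ Fin m → F) (c : F) (v : Fin m ⊕ Fin m → F) :
    Cfsg.sympTransvection m u c *ᵥ v = v + (c * form m F v u) • u := by
  rw [Cfsg.sympTransvection, Matrix.add_mulVec, Matrix.one_mulVec, Matrix.smul_mulVec,
    Matrix.vecMulVec_mulVec, form_apply, Cfsg.sympForm, dotProduct_comm v, mul_smul]
  simp

theorem toLin'_transvection (u : Fin m ⊕ Fin m → F) (c : F) :
    Matrix.toLin' (Cfsg.sympTransvection m u c) = Symp.transvLin (form m F) u c := by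
  apply LinearMap.ext
  intro v
  rw [Matrix.toLin'_apply, transvection_mulVec, Symp.transvLin_apply]

theorem mem_symp_iff (A : Matrix (Fin m ⊕ Fin m) (Fin m ⊕ Fin m) F) :
    A ∈ Matrix.symplecticGroup (Fin m) F ↔
      ∀ u v, form m F (A *ᵥ u) (A *ᵥ v) = form m F u v := by
  rw [SymplecticGroup.mem_iff']
  constructor
  · intro h u v
    have h1 : Matrix.toBilin' (Aᵀ * J (Fin m) F * A) u v = Matrix.toBilin' (J (Fin m) F) u v := by
      rw [h]
    rw [← Matrix.toBilin'_comp] at h1
    simpa [form] using h1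
  · intro h
    apply Matrix.toBilin'.injective
    rw [← Matrix.toBilin'_comp]
    apply LinearMap.ext₂
    intro u v
    simpa [form] using h u v

theorem transvection_mem (u : Fin m ⊕ Fin m → F) (c : F) :
    Cfsg.sympTransvection m u c ∈ Matrix.symplecticGroup (Fin m) F := by
  rw [mem_symp_iff]
  intro x y
  rw [transvection_mulVec, transvection_mulVec]
  have := Symp.transv_isometry (form m F) (form_alt m) u c x y
  rwa [Symp.transv_apply, Symp.transv_apply] at this

/-- The action of the symplectic group on column vectors, as a group homomorphism. -/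
noncomputable def Φ : Matrix.symplecticGroup (Fin m) F →*
    ((Fin m ⊕ Fin m → F) ≃ₗ[F] (Fin m ⊕ Fin m → F)) where
  toFun A := LinearEquiv.ofLinearMap
    (Matrix.toLin' (A : Matrix (Fin m ⊕ Fin m) (Fin m ⊕ Fin m) F))
    (Matrix.toLin' ((A⁻¹ : Matrix.symplecticGroup (Fin m) F) :
      Matrix (Fin m ⊕ Fin m) (Fin m ⊕ Fin m) F))
    (by rw [← Matrix.toLin'_mul, ← Submonoid.coe_mul, mul_inv_cancel, Submonoid.coe_one,
      Matrix.toLin'_one])
    (by rw [← Matrix.toLin'_mul, ← Submonoid.coe_mul, inv_mul_cancel, Submonoid.coe_one,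
      Matrix.toLin'_one])
  map_one' := by
    apply LinearEquiv.ext
    intro v
    simp
  map_mul' A B := by
    apply LinearEquiv.ext
    intro v
    simp [Matrix.toLin'_mul]

theorem Φ_apply (A : Matrix.symplecticGroup (Fin m) F) (v : Fin m ⊕ Fin m → F) :
    Φ m A v = (A : Matrix (Fin m ⊕ Fin m) (Fin m ⊕ Fin m) F) *ᵥ v :=
  Matrix.toLin'_apply _ _

theorem Φ_injective : Function.Injective (Φ m (F := F)) := by
  intro A B h
  apply Subtype.ext
  apply Matrix.toLin'.injective
  apply LinearMap.ext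
  intro v
  have := congrArg (fun g => g v) h
  simpa [Φ_apply] using this

/-- The transvection elements of the symplectic group. -/
def gens : Set (Matrix.symplecticGroup (Fin m) F) :=
  {A | ∃ (w : Fin m ⊕ Fin m → F) (c : F),
    (A : Matrix (Fin m ⊕ Fin m) (Fin m ⊕ Fin m) F) = Cfsg.sympTransvection m w c}

theorem Φ_transvection (u : Fin m ⊕ Fin m → F) (c : F) :
    Φ m ⟨Cfsg.sympTransvection m u c, transvection_mem m u c⟩ =
      Symp.transv (form m F) (form_alt m) u c := by
  apply LinearEquiv.ext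
  intro v
  rw [Φ_apply, Symp.transv_apply, transvection_mulVec]

theorem T_eq : Symp.T (form m F) (form_alt m) = (Subgroup.closure (gens m)).map (Φ m) := by
  rw [MonoidHom.map_closure, Symp.T]
  congr 1
  ext t
  constructor
  · rintro ⟨u, c, rfl⟩
    exact ⟨⟨_, transvection_mem m u c⟩, ⟨u, c, rfl⟩, Φ_transvection m u c⟩
  · rintro ⟨A, ⟨u, c, hA⟩, rfl⟩
    refine ⟨u, c, ?_⟩
    rw [← Φ_transvection]
    congr 1
    exact Subtype.ext hA

theorem Φ_isometry (A : Matrix.symplecticGroup (Fin m) F) (u v : Fin m ⊕ Fin m → F) :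
    form m F (Φ m A u) (Φ m A v) = form m F u v := by
  rw [Φ_apply, Φ_apply]
  exact (mem_symp_iff m _).1 A.2 u v

theorem Φ_mem_T (A : Matrix.symplecticGroup (Fin m) F) :
    Φ m A ∈ Symp.T (form m F) (form_alt m) := by
  obtain ⟨s, hs⟩ := (Module.Finite.fg_top : (⊤ : Submodule F (Fin m ⊕ Fin m → F)).FG)
  obtain ⟨g, hg, hgf⟩ := Symp.witt_T (form m F) (form_nondeg m) (form_alt m)
    (Φ m A).toLinearMap s
    (by
      rw [hs]
      intro x _ x' _
      exact Φ_isometry m A x x')
    (by
      rw [hs]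
      intro x _ h
      exact (Φ m A).injective (by simpa using h))
  have : g = Φ m A := LinearEquiv.ext fun x => hgf x (hs ▸ Submodule.mem_top)
  rw [← this]
  exact hg

theorem closure_gens_eq_top : Subgroup.closure (gens m (F := F)) = ⊤ := by
  rw [eq_top_iff]
  intro A _
  have := Φ_mem_T m A
  rw [T_eq] at this
  obtain ⟨A', hA', hA'A⟩ := this
  rw [← Φ_injective m hA'A]
  exact hA'

theorem trans_pairs (u v u' v' : Fin m ⊕ Fin m → F) (h : Cfsg.sympForm m F u v = 1)
    (h' : Cfsg.sympForm m F u' v' = 1) :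
    ∃ A ∈ Subgroup.closure (gens m (F := F)),
      (A : Matrix (Fin m ⊕ Fin m) (Fin m ⊕ Fin m) F) *ᵥ u = u' ∧
      (A : Matrix (Fin m ⊕ Fin m) (Fin m ⊕ Fin m) F) *ᵥ v = v' := by
  rw [← form_apply] at h h'
  have hA := form_alt m (F := F)
  have hu : u ∉ (⊥ : Submodule F (Fin m ⊕ Fin m → F)) := by
    intro h0
    rw [Submodule.mem_bot] at h0
    rw [h0] at h
    simp at h
  have hu' : u' ∉ (⊥ : Submodule F (Fin m ⊕ Fin m → F)) := by
    intro h0
    rw [Submodule.mem_bot] at h0
    rw [h0] at h'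
    simp at h'
  obtain ⟨t₁, ht₁, -, h1⟩ := Symp.step2 (form m F) (form_nondeg m) hA ⊥ u u' hu hu'
    (by
      intro z hz
      rw [Submodule.mem_bot] at hz
      rw [hz]
      simp)
  have hiso := Symp.T_isometry (form m F) hA ht₁
  have hx : t₁ v ∉ Submodule.span F {u'} := by
    intro hmem
    obtain ⟨k, hk⟩ := Submodule.mem_span_singleton.1 hmem
    have e := hiso u v
    rw [h1, ← hk, map_smul, hA u', h] at e
    simp at e
  have hy : v' ∉ Submodule.span F {u'} := by
    intro hmem
    obtain ⟨k, hk⟩ := Submodule.mem_span_singleton.1 hmem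
    rw [← hk, map_smul, hA u'] at h'
    simp at h'
  obtain ⟨t₂, ht₂, hfix, h2⟩ := Symp.step2 (form m F) (form_nondeg m) hA
    (Submodule.span F {u'}) (t₁ v) v' hx hy
    (by
      intro z hz
      obtain ⟨k, rfl⟩ := Submodule.mem_span_singleton.1 hz
      have e := hiso u v
      rw [h1] at e
      rw [map_smul, LinearMap.smul_apply, map_sub, h', e, h]
      simp)
  have hmem : t₂ * t₁ ∈ Symp.T (form m F) hA := mul_mem ht₂ ht₁
  rw [T_eq] at hmem
  obtain ⟨A, hA', hAeq⟩ := hmem
  refine ⟨A, hA', ?_, ?_⟩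
  · rw [← Φ_apply, hAeq, LinearEquiv.mul_apply, h1]
    exact hfix u' (Submodule.mem_span_singleton_self u')
  · rw [← Φ_apply, hAeq, LinearEquiv.mul_apply, h2]

theorem transvection_mul (v : Fin m ⊕ Fin m → F) (c d : F) :
    Cfsg.sympTransvection m v c * Cfsg.sympTransvection m v d =
      Cfsg.sympTransvection m v (c + d) := by
  apply Matrix.toLin'.injective
  rw [Matrix.toLin'_mul, toLin'_transvection, toLin'_transvection, toLin'_transvection,
    Symp.transvLin_comp _ (form_alt m)]

theorem transvection_conj (v : Fin m ⊕ Fin m → F)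
    (A : Matrix (Fin m ⊕ Fin m) (Fin m ⊕ Fin m) F) (a : F)
    (hA : A ∈ Matrix.symplecticGroup (Fin m) F) (hAv : A *ᵥ v = a • v) (c : F) :
    A * Cfsg.sympTransvection m v c * A⁻¹ = Cfsg.sympTransvection m v (c * a * a) := by
  have hinv : A * A⁻¹ = 1 := Matrix.mul_nonsing_inv A (SymplecticGroup.symplectic_det hA)
  apply Matrix.toLin'.injective
  apply LinearMap.ext
  intro x
  rw [Matrix.toLin'_apply, Matrix.toLin'_apply, ← Matrix.mulVec_mulVec, ← Matrix.mulVec_mulVec,
    transvection_mulVec, transvection_mulVec, Matrix.mulVec_add, Matrix.mulVec_mulVec, hinv,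
    Matrix.one_mulVec, Matrix.mulVec_smul, hAv]
  have e := (mem_symp_iff m A).1 hA (A⁻¹ *ᵥ x) v
  rw [Matrix.mulVec_mulVec, hinv, Matrix.one_mulVec, hAv, map_smul] at e
  rw [← e, smul_smul, smul_eq_mul]
  congr 2
  ring

end Cfsg.Agent.Lib.Helper13.SympMat
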