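import Mathlib
import Cfsg.Prelude.Def_LieExceptional

set_option autoImplicit false

namespace Cfsg.Agent.Lib.Helper13.Zass

variable {G Ω : Type*} [Group G] [MulAction G Ω]

theorem exists_moved (hZ : Cfsg.IsZassenhausGroup G Ω) {t : G} (ht : t ≠ 1) :
    ∃ c : Ω, t • c ≠ c := by
  by_contra hcon
  apply ht
  haveI := hZ.1
  apply eq_of_smul_eq_smul (α := Ω)
  intro c
  rw [one_smul]
  by_contra h
  exact hcon ⟨c, h⟩

theorem fix_le_two [Fintype Ω] (hZ : Cfsg.IsZassenhausGroup G Ω) {s : G} (hs : s ≠ 1) :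
    Nat.card (MulAction.fixedBy Ω s) ≤ 2 := by
  by_contra hlt
  classical
  have hlt' : 2 < Fintype.card (MulAction.fixedBy Ω s) := by
    rw [← Nat.card_eq_fintype_card]
    omega
  rw [Fintype.two_lt_card_iff] at hlt'
  obtain ⟨x, y, z, hxy, hxz, hyz⟩ := hlt'
  apply hs
  exact hZ.2.2.1 s x y z (fun h => hxy (Subtype.ext h)) (fun h => hyz (Subtype.ext h))
    (fun h => hxz (Subtype.ext h)) x.2 y.2 z.2

theorem parity [Fintype Ω] (s : G) (hs : s * s = 1) :
    Nat.card (MulAction.fixedBy Ω s) % 2 = Fintype.card Ω % 2 := by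
  classical
  let f : Function.End Ω := fun ω => s • ω
  have hf : f ^ 2 ^ 1 = 1 := by
    rw [pow_one, sq]
    funext ω
    change s • (s • ω) = ω
    rw [smul_smul, hs, one_smul]
  haveI : Fact (Nat.Prime 2) := ⟨Nat.prime_two⟩
  have h := Equiv.Perm.card_fixedPoints_modEq (f := f) hf
  have e : Nat.card (MulAction.fixedBy Ω s) = Fintype.card (Function.fixedPoints f) := by
    rw [← Nat.card_eq_fintype_card]
    rfl
  rw [e]
  exact h.symm

theorem order_two_iff (s : G) : orderOf s = 2 ↔ s * s = 1 ∧ s ≠ 1 := by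
  haveI : Fact (Nat.Prime 2) := ⟨Nat.prime_two⟩
  rw [orderOf_eq_prime_iff, sq]

theorem conj_swap (hZ : Cfsg.IsZassenhausGroup G Ω) (t : G) (ht : orderOf t = 2) (c : Ω)
    (hc : t • c ≠ c) {a b : Ω} (hab : a ≠ b) :
    ∃ s : G, orderOf s = 2 ∧ s • a = b ∧ s • b = a ∧
      Nat.card (MulAction.fixedBy Ω s) = Nat.card (MulAction.fixedBy Ω t) := by
  obtain ⟨ht2, ht1⟩ := (order_two_iff t).1 ht
  have h2 := hZ.2.1
  rw [MulAction.is_two_pretransitive_iff] at h2
  obtain ⟨x, hx1, hx2⟩ := h2 (a := c) (b := t • c) (c := a) (d := b) (Ne.symm hc) hab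
  have hxa : x⁻¹ • a = c := by rw [inv_smul_eq_iff, hx1]
  have hxb : x⁻¹ • b = t • c := by rw [inv_smul_eq_iff, hx2]
  refine ⟨x * t * x⁻¹, ?_, ?_, ?_, ?_⟩
  · rw [order_two_iff]
    constructor
    · calc x * t * x⁻¹ * (x * t * x⁻¹) = x * (t * t) * x⁻¹ := by group
        _ = 1 := by rw [ht2]; group
    · intro h
      apply ht1
      calc t = x⁻¹ * (x * t * x⁻¹) * x := by group
        _ = 1 := by rw [h]; group
  · rw [mul_smul, mul_smul, hxa, hx2]
  · rw [mul_smul, mul_smul, hxb, smul_smul t t, ht2, one_smul, hx1]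
  · apply Nat.card_congr
    refine
      { toFun := fun y => ⟨x⁻¹ • y.1, ?_⟩
        invFun := fun y => ⟨x • y.1, ?_⟩
        left_inv := fun y => Subtype.ext (smul_inv_smul x _)
        right_inv := fun y => Subtype.ext (inv_smul_smul x _) }
    · have h := y.2
      rw [MulAction.mem_fixedBy, mul_smul, mul_smul] at h
      rw [MulAction.mem_fixedBy]
      exact (smul_eq_iff_eq_inv_smul _).1 h
    · have h := y.2
      rw [MulAction.mem_fixedBy] at h
      rw [MulAction.mem_fixedBy, mul_smul, mul_smul, inv_smul_smul, h]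

theorem exists_involution [Finite G] (hZ : Cfsg.IsZassenhausGroup G Ω) {a b : Ω} (hab : a ≠ b) :
    ∃ t : G, orderOf t = 2 := by
  have h2 := hZ.2.1
  rw [MulAction.is_two_pretransitive_iff] at h2
  obtain ⟨g, hga, hgb⟩ := h2 (a := a) (b := b) (c := b) (d := a) hab (Ne.symm hab)
  have hgg : ∀ k : ℕ, (g ^ (2 * k)) • a = a ∧ (g ^ (2 * k)) • b = b := by
    intro k
    induction k with
    | zero => simp
    | succ k ih =>
      rw [Nat.mul_succ, pow_add, mul_smul, mul_smul, sq, mul_smul, mul_smul, hga, hgb, hga]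
      exact ih
  have hpos : 0 < orderOf g := orderOf_pos g
  have heven : Even (orderOf g) := by
    by_contra hodd
    rw [Nat.not_even_iff_odd] at hodd
    obtain ⟨k, hk⟩ := hodd
    have h1 : (g ^ (2 * k + 1)) • a = b := by
      rw [pow_succ, mul_smul, hga]
      exact (hgg k).2
    rw [← hk, pow_orderOf_eq_one, one_smul] at h1
    exact hab h1
  obtain ⟨m, hm⟩ := heven
  refine ⟨g ^ m, ?_⟩
  rw [order_two_iff]
  constructor
  · rw [← pow_add, ← hm, pow_orderOf_eq_one]
  · exact pow_ne_one_of_lt_orderOf (by omega) (by omega)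

end Cfsg.Agent.Lib.Helper13.Zass
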