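import Mathlib
import Cfsg.Agent.Lib.Helper23.HNStmt

/-!
# S1438 / CYCP (helper13): a finite commutative group without `Z_p × Z_p` is cyclic
-/

set_option autoImplicit false

namespace Cfsg.Agent.Lib.Helper13.HNCYCP

universe u

open Cfsg Cfsg.Agent.Lib.Helper23.HNStmt

/-- torsion count: if the `p`-torsion has at most `p` elements for every prime `p`, then the
`n`-torsion has at most `n` elements. -/
theorem card_torsion_le {α : Type*} [CommGroup α] [Finite α]
    (h : ∀ p : ℕ, p.Prime → Nat.card (powMonoidHom p : α →* α).ker ≤ p) :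
    ∀ n : ℕ, 0 < n → Nat.card (powMonoidHom n : α →* α).ker ≤ n := by
  intro n
  induction n using Nat.strong_induction_on with
  | _ n ih =>
    intro hn
    rcases Nat.eq_or_lt_of_le (Nat.succ_le_of_lt hn) with h1 | h1
    · have hn1 : n = 1 := h1.symm
      subst hn1
      have hbot : (powMonoidHom 1 : α →* α).ker = ⊥ := by
        rw [eq_bot_iff]
        intro a ha
        rw [MonoidHom.mem_ker, powMonoidHom_apply, pow_one] at ha
        exact Subgroup.mem_bot.2 ha
      rw [hbot, Subgroup.card_bot]
    · obtain ⟨p, hp, hpn⟩ := Nat.exists_prime_and_dvd (ne_of_gt h1)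
      obtain ⟨m, rfl⟩ := hpn
      have hm : 0 < m := Nat.pos_of_ne_zero (by rintro rfl; simp at hn)
      have hlt : m < p * m := by
        have := hp.one_lt
        nlinarith
      obtain ⟨T, hT⟩ : ∃ T : Subgroup α, T = (powMonoidHom (p * m) : α →* α).ker := ⟨_, rfl⟩
      rw [← hT]
      obtain ⟨f, hf⟩ : ∃ f : ↥T →* α, f = (powMonoidHom m : α →* α).comp T.subtype := ⟨_, rfl⟩
      have hcard : Nat.card ↥T = Nat.card f.ker * Nat.card f.range := by
        rw [← Subgroup.index_ker, Subgroup.card_mul_index]
      have h2 : Nat.card f.range ≤ p := by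
        refine (Subgroup.card_le_of_le ?_).trans (h p hp)
        rintro _ ⟨a, rfl⟩
        have ha : (a : α) ∈ (powMonoidHom (p * m) : α →* α).ker := hT ▸ a.2
        rw [MonoidHom.mem_ker, powMonoidHom_apply] at ha
        rw [MonoidHom.mem_ker, powMonoidHom_apply, hf, MonoidHom.comp_apply, powMonoidHom_apply,
          Subgroup.coe_subtype, ← pow_mul, mul_comm m p]
        exact ha
      have hfa : ∀ t : ↥T, f t = (powMonoidHom m : α →* α) (t : α) := by
        intro t; rw [hf]; rfl
      have h3 : Nat.card f.ker ≤ m := by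
        refine le_trans ?_ (ih m hlt hm)
        refine Nat.card_le_card_of_injective
          (fun a : ↥f.ker => (⟨((a : ↥T) : α), ?_⟩ : ↥(powMonoidHom m : α →* α).ker)) ?_
        · have ha := a.2
          rw [MonoidHom.mem_ker] at ha
          rw [MonoidHom.mem_ker, ← hfa]
          exact ha
        · intro a b hab
          have : ((a : ↥T) : α) = ((b : ↥T) : α) := Subtype.mk.inj hab
          exact Subtype.ext (Subtype.ext this)
      rw [hcard]
      calc Nat.card f.ker * Nat.card f.range ≤ m * p := Nat.mul_le_mul h3 h2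
        _ = p * m := mul_comm m p

/-- a finite commutative group whose `p`-torsion has at most `p` elements for every prime `p` is
cyclic. -/
theorem isCyclic_of_torsion {α : Type*} [CommGroup α] [Finite α]
    (h : ∀ p : ℕ, p.Prime → Nat.card (powMonoidHom p : α →* α).ker ≤ p) : IsCyclic α := by
  classical
  have := Fintype.ofFinite α
  refine isCyclic_of_card_pow_eq_one_le fun n hn => ?_
  have h1 := card_torsion_le h n hn
  have h2 : Nat.card ↥(powMonoidHom n : α →* α).ker =
      (Finset.univ.filter (fun a : α => a ^ n = 1)).card :=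
    Nat.subtype_card _ (fun x => by
      rw [Finset.mem_filter]
      simp [MonoidHom.mem_ker])
  rw [← h2]
  exact h1

theorem main : CycPure.{u} := by
  intro G _ _ X hcomm hno
  let _ : CommGroup ↥X :=
    { (inferInstance : Group ↥X) with
      mul_comm := fun a b => Subtype.ext (hcomm a a.2 b b.2) }
  refine isCyclic_of_torsion fun p hp => ?_
  by_contra hlt
  rw [not_le] at hlt
  have : Fact p.Prime := ⟨hp⟩
  obtain ⟨T, hT⟩ : ∃ T : Subgroup ↥X, T = (powMonoidHom p : ↥X →* ↥X).ker := ⟨_, rfl⟩
  rw [← hT] at hlt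
  have hTp : ∀ a ∈ T, a ^ p = 1 := by
    intro a ha
    rw [hT, MonoidHom.mem_ker, powMonoidHom_apply] at ha
    exact ha
  have hpg : IsPGroup p ↥T := by
    intro a
    refine ⟨1, ?_⟩
    rw [pow_one]
    exact Subtype.ext (hTp a a.2)
  obtain ⟨k, hk⟩ := (IsPGroup.iff_card).1 hpg
  have hk2 : 2 ≤ k := by
    by_contra hk2
    have hk1 : k ≤ 1 := by omega
    have : p ^ k ≤ p ^ 1 := Nat.pow_le_pow_right hp.pos hk1
    rw [pow_one] at this
    omega
  obtain ⟨K, hK⟩ := Sylow.exists_subgroup_card_pow_prime p
    (show p ^ 2 ∣ Nat.card ↥T from hk ▸ pow_dvd_pow p hk2)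
  refine hno p ((K.map T.subtype).map X.subtype) hp ?_ ?_ ?_
  · rintro _ ⟨a, _, rfl⟩
    exact a.2
  · rintro _ ⟨_, ⟨a, _, rfl⟩, rfl⟩
    have := hTp a a.2
    have h2 : ((a : ↥X) : G) ^ p = 1 := by
      have := congrArg Subtype.val this
      simpa using this
    simpa using h2
  · rw [Subgroup.card_map_of_injective X.subtype_injective,
      Subgroup.card_map_of_injective T.subtype_injective, hK]

end Cfsg.Agent.Lib.Helper13.HNCYCP
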