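import Mathlib
import Cfsg.Agent.Lib.Helper87.FUSHStmt

/-!
# S1438 / FUSHB (helper13): step B of `FusHall` (`S / F` nilpotent)
-/

set_option autoImplicit false

namespace Cfsg.Agent.Lib.Helper13.HNFUSHB

universe u

open Cfsg Cfsg.Agent.Lib.Helper23.HNStmt Cfsg.Agent.Lib.Helper87.FUSHStmt

theorem main (hU : HallNilUniq.{u}) (hC : HallConj.{u}) : StepB.{u} := by
  intro X _ _ hsolv S F D H _ hFS hSD hDnil hHS hHall x hx s hs _
  obtain ⟨π, hπ⟩ : ∃ π : X →* X ⧸ F, π = QuotientGroup.mk' F := ⟨_, rfl⟩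
  have hπ1 : ∀ y, π y = 1 ↔ y ∈ F := by
    intro y; rw [hπ]; exact QuotientGroup.eq_one_iff y
  rw [← hπ] at hDnil
  obtain ⟨Hs, hHs⟩ : ∃ Hs : Subgroup X, Hs = H.map (MulAut.conj s).toMonoidHom := ⟨_, rfl⟩
  have hmemHs : ∀ y, y ∈ Hs ↔ ∃ z ∈ H, s * z * s⁻¹ = y := by
    intro y
    rw [hHs, Subgroup.mem_map]
    constructor
    · rintro ⟨z, hz, rfl⟩
      exact ⟨z, hz, (MulAut.conj_apply s z).symm⟩
    · rintro ⟨z, hz, rfl⟩
      exact ⟨z, hz, MulAut.conj_apply s z⟩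
  have hHsS : Hs ≤ S := by
    intro y hy
    obtain ⟨z, hz, rfl⟩ := (hmemHs y).1 hy
    exact S.mul_mem (S.mul_mem hs (hHS hz)) (S.inv_mem hs)
  have hcardHs : Nat.card H = Nat.card Hs := by
    rw [hHs, Subgroup.card_map_of_injective (MulAut.conj s).injective]
  -- step (i): the images in `X ⧸ F` agree
  have hcomm : π.comp (MulAut.conj s).toMonoidHom = (MulAut.conj (π s)).toMonoidHom.comp π := by
    ext y
    simp [MulAut.conj_apply]
  have hAB : H.map π = Hs.map π := by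
    have hnil : Group.IsNilpotent ↥(S.map π) := by
      have := hDnil
      exact Group.nilpotent_of_mulEquiv (Subgroup.subgroupOfEquivOfLe (Subgroup.map_mono hSD))
    refine hU (S.map π) (H.map π) (Hs.map π) hnil (Subgroup.map_mono hHS)
      (Subgroup.map_mono hHsS) ?_ ?_
    · have e : Hs.map π = (H.map π).map (MulAut.conj (π s)).toMonoidHom := by
        rw [hHs, Subgroup.map_map, hcomm, ← Subgroup.map_map]
      rw [e]
      exact (Subgroup.card_map_of_injective (f := (MulAut.conj (π s)).toMonoidHom)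
        (MulAut.conj (π s)).injective).symm
    · have h1 : Nat.card ↥(H.map π) ∣ Nat.card H := Subgroup.card_map_dvd _ π
      have h2 : (H.map π).relIndex (S.map π) ∣ H.relIndex S := by
        rw [← Subgroup.relIndex_comap]
        exact Subgroup.relIndex_dvd_of_le_left S (Subgroup.le_comap_map π H)
      exact (hHall.coprime_dvd_left h1).coprime_dvd_right h2
  -- step (ii): `Hs ≤ H ⊔ F`
  have hHsL : Hs ≤ H ⊔ F := by
    intro y hy
    have hy' : π y ∈ H.map π := by rw [hAB]; exact Subgroup.mem_map_of_mem π hy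
    obtain ⟨h, hh, hhy⟩ := hy'
    have hF : h⁻¹ * y ∈ F := by
      rw [← hπ1, map_mul, map_inv, hhy, inv_mul_cancel]
    have : h * (h⁻¹ * y) ∈ H ⊔ F :=
      Subgroup.mul_mem _ (Subgroup.mem_sup_left hh) (Subgroup.mem_sup_right hF)
    rwa [mul_inv_cancel_left] at this
  -- step (iii): conjugate in `H ⊔ F`
  have hLS : H ⊔ F ≤ S := sup_le hHS hFS
  have hsolvL : Group.IsSolvable ↥(H ⊔ F) := by
    have := hsolv
    infer_instance
  have hHallL : (Nat.card H).Coprime (H.relIndex (H ⊔ F)) :=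
    hHall.coprime_dvd_right (Dvd.intro _ (Subgroup.relIndex_mul_relIndex H (H ⊔ F) S le_sup_left hLS))
  obtain ⟨g, hg, hgeq⟩ := hC (H ⊔ F) H Hs hsolvL le_sup_left hHsL hcardHs hHallL
  rw [sup_comm] at hg
  obtain ⟨f, hf, h, hh, rfl⟩ := (Subgroup.mem_sup_of_normal_left).1 hg
  have hmemg : ∀ y, y ∈ Hs ↔ ∃ z ∈ H, f * z * f⁻¹ = y := by
    intro y
    rw [hgeq, Subgroup.mem_map]
    constructor
    · rintro ⟨z, hz, rfl⟩
      refine ⟨h * z * h⁻¹, H.mul_mem (H.mul_mem hh hz) (H.inv_mem hh), ?_⟩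
      rw [MulEquiv.coe_toMonoidHom, MulAut.conj_apply]
      group
    · rintro ⟨z, hz, rfl⟩
      refine ⟨h⁻¹ * z * h, H.mul_mem (H.mul_mem (H.inv_mem hh) hz) hh, ?_⟩
      rw [MulEquiv.coe_toMonoidHom, MulAut.conj_apply]
      group
  have hK : ∀ y, (∃ z ∈ H, s * z * s⁻¹ = y) ↔ ∃ z ∈ H, f * z * f⁻¹ = y := fun y =>
    (hmemHs y).symm.trans (hmemg y)
  have hnorm : f⁻¹ * s ∈ Subgroup.normalizer (H : Set X) := by
    rw [Subgroup.mem_normalizer_iff]
    intro y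
    constructor
    · intro hy
      obtain ⟨z, hz, hzy⟩ := (hK (s * y * s⁻¹)).1 ⟨y, hy, rfl⟩
      have : f⁻¹ * s * y * (f⁻¹ * s)⁻¹ = z := by
        have : f⁻¹ * s * y * (f⁻¹ * s)⁻¹ = f⁻¹ * (s * y * s⁻¹) * f := by group
        rw [this, ← hzy]
        group
      rw [this]
      exact hz
    · intro hw
      obtain ⟨z, hz, hzy⟩ := (hK (f * (f⁻¹ * s * y * (f⁻¹ * s)⁻¹) * f⁻¹)).2 ⟨_, hw, rfl⟩
      have h1 : f * (f⁻¹ * s * y * (f⁻¹ * s)⁻¹) * f⁻¹ = s * y * s⁻¹ := by group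
      rw [h1] at hzy
      have h2 : z = y := mul_left_cancel (mul_right_cancel hzy)
      rw [← h2]
      exact hz
  refine ⟨f⁻¹ * s, hnorm, f, hf, ((Subgroup.mem_normalizer_iff.1 hnorm) x).1 hx, ?_⟩
  group

end Cfsg.Agent.Lib.Helper13.HNFUSHB
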