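import Mathlib
import Cfsg.Agent.Lib.Helper88.MCStmt

/-!
# S4245 / FINISH (call by helper88): `K ⊴ G` of index `2 ^ r`, `B₀` cyclic of odd order and index
`2 ^ r * p ^ s`: `G` is solvable (from `NilIdx` applied to `K`).
-/

set_option autoImplicit false

universe u

namespace Cfsg.Agent.Lib.Helper13.MCFINISH

open Cfsg.Agent.Lib.Helper88.MCStmt

theorem main : NilIdx.{u} → Finish.{u} := by
  intro hN G _ _ K B₀ p s r hp hKn hKi hB hodd hBi
  have hKn' : K.Normal := hKn
  -- `B₀ ≤ K`
  have hle : B₀ ≤ K := by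
    intro b hb
    have h1 : orderOf ((QuotientGroup.mk' K) b) ∣ orderOf b := orderOf_map_dvd _ b
    have h2 : orderOf b ∣ Nat.card ↥B₀ := by
      have := orderOf_dvd_natCard (⟨b, hb⟩ : ↥B₀)
      rwa [Subgroup.orderOf_mk] at this
    have h3 : orderOf ((QuotientGroup.mk' K) b) ∣ 2 ^ r := by
      have := orderOf_dvd_natCard ((QuotientGroup.mk' K) b)
      rwa [← Subgroup.index_eq_card, hKi] at this
    have hd : Odd (orderOf ((QuotientGroup.mk' K) b)) := Odd.of_dvd_nat hodd (h1.trans h2)
    have h4 : orderOf ((QuotientGroup.mk' K) b) = 1 :=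
      Nat.Coprime.eq_one_of_dvd (Nat.Coprime.pow_right r (Nat.coprime_two_right.mpr hd)) h3
    have h5 : (QuotientGroup.mk' K) b = 1 := orderOf_eq_one_iff.mp h4
    exact (QuotientGroup.eq_one_iff b).mp h5
  -- the index of `B₀` in `K`
  have hrel : (B₀.subgroupOf K).index = p ^ s := by
    have h := Subgroup.relIndex_mul_index hle
    rw [hKi, hBi, mul_comm] at h
    exact Nat.eq_of_mul_eq_mul_left (by positivity) h
  have hcyc : IsCyclic ↥(B₀.subgroupOf K) :=
    isCyclic_of_surjective (Subgroup.subgroupOfEquivOfLe hle).symm.toMonoidHom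
      (Subgroup.subgroupOfEquivOfLe hle).symm.surjective
  have hKs : Group.IsSolvable ↥K := hN ↥K (B₀.subgroupOf K) p s hp hcyc hrel
  -- the quotient
  have hQ : IsPGroup 2 (G ⧸ K) := by
    apply IsPGroup.of_card (n := r)
    rw [← Subgroup.index_eq_card, hKi]
  have hQn : Group.IsNilpotent (G ⧸ K) := hQ.isNilpotent
  have hQs : Group.IsSolvable (G ⧸ K) := inferInstance
  refine Group.isSolvable_of_ker_le_range K.subtype (QuotientGroup.mk' K) ?_
  rw [QuotientGroup.ker_mk', Subgroup.range_subtype]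

end Cfsg.Agent.Lib.Helper13.MCFINISH
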