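import Mathlib
import Cfsg.Agent.Lib.Helper44.PGStmt

/-!
# S2474, piece ALTEVEN: an invertible alternating matrix has even size
-/

set_option autoImplicit false

namespace Cfsg.Agent.Lib.Helper13.PGALTEVEN

open Matrix
open Cfsg.Agent.Lib.Helper44.PGStmt

universe u

theorem main : AltEven.{u} := by
  intro F _ κ _ _ G h2 hG hdet
  by_contra hodd
  rw [Nat.not_even_iff_odd] at hodd
  have h1 : G.det = (-1) ^ Fintype.card κ * G.det := by
    conv_lhs => rw [← Matrix.det_transpose, hG, Matrix.det_neg]
  rw [hodd.neg_one_pow] at h1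
  have h3 : (2 : F) * G.det = 0 := by linear_combination h1
  rcases mul_eq_zero.mp h3 with h | h
  · exact h2 h
  · exact hdet h

end Cfsg.Agent.Lib.Helper13.PGALTEVEN
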