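import Mathlib
import Cfsg.Agent.Lib.Helper44.OCls2
import Cfsg.Agent.Lib.Helper44.PGStmt

/-!
# S2474, piece BSUM: orthogonal direct sum of two isometries
-/

set_option autoImplicit false

namespace Cfsg.Agent.Lib.Helper13.PGBSUM

open Matrix
open Cfsg.Agent.Lib.Helper44.OExt
open Cfsg.Agent.Lib.Helper44.PGStmt

universe u

theorem qN_fromBlocks {F : Type u} [Field F] {κ₁ κ₂ : Type} [Fintype κ₁] [DecidableEq κ₁]
    [Fintype κ₂] [DecidableEq κ₂] (N₁ : Matrix κ₁ κ₁ F) (N₂ : Matrix κ₂ κ₂ F)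
    (u : κ₁ ⊕ κ₂ → F) :
    qN (fromBlocks N₁ 0 0 N₂) u = qN N₁ (u ∘ Sum.inl) + qN N₂ (u ∘ Sum.inr) := by
  rw [qN_apply, qN_apply, qN_apply, Matrix.fromBlocks_mulVec]
  have hu : u = Sum.elim (u ∘ Sum.inl) (u ∘ Sum.inr) := (Sum.elim_comp_inl_inr u).symm
  nth_rewrite 1 [hu]
  rw [sumElim_dotProduct_sumElim]
  simp

theorem main : BlockSum.{u} := by
  intro F _ κ₁ κ₂ _ _ _ _ N₁ s₁ N₂ s₂ hd₁ hd₂ hi₁ hi₂
  refine ⟨?_, ?_, ?_⟩
  · rw [fromBlocks_transpose, fromBlocks_add]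
    simp only [transpose_zero, add_zero]
    rw [Matrix.det_fromBlocks_zero₁₂]
    exact mul_ne_zero hd₁ hd₂
  · intro u
    rw [qN_fromBlocks, qN_fromBlocks, Matrix.fromBlocks_mulVec]
    simp only [Sum.elim_comp_inl, Sum.elim_comp_inr, Matrix.zero_mulVec, add_zero, zero_add]
    rw [hi₁, hi₂]
  · intro j
    rw [Cfsg.Agent.Lib.Helper44.OCls2.fromBlocks_diag_pow, ← Matrix.fromBlocks_one,
      Matrix.fromBlocks_inj]
    simp

end Cfsg.Agent.Lib.Helper13.PGBSUM
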