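import Mathlib
import Cfsg.Agent.Lib.Helper44.PGStmt

/-!
# S2474, piece GBF: the blocks of a block-diagonal isometry are isometries of the blocks
-/

set_option autoImplicit false

namespace Cfsg.Agent.Lib.Helper13.PGGBF

open Matrix
open Cfsg.Agent.Lib.Helper44.PGStmt

universe u

/-- a matrix is determined by its bilinear form. -/
theorem eq_of_forall_dot {F : Type u} [Field F] {κ : Type} [Fintype κ] [DecidableEq κ]
    (A B : Matrix κ κ F) (h : ∀ v w : κ → F, v ⬝ᵥ A *ᵥ w = v ⬝ᵥ B *ᵥ w) : A = B := by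
  ext i j
  have h1 := h (Pi.single i 1) (Pi.single j 1)
  simpa using h1

theorem dot_isom {F : Type u} [Field F] {κ : Type} [Fintype κ] [DecidableEq κ]
    (G D : Matrix κ κ F) (a b : κ → F) :
    (D *ᵥ a) ⬝ᵥ G *ᵥ (D *ᵥ b) = a ⬝ᵥ (Dᵀ * G * D) *ᵥ b := by
  rw [Matrix.mulVec_mulVec, Matrix.dotProduct_mulVec, ← Matrix.vecMul_transpose,
    Matrix.vecMul_vecMul, ← Matrix.dotProduct_mulVec, Matrix.mul_assoc]

theorem main : GBlockFacts.{u} := by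
  intro F _ ι _ _ k₁ k₂ J G D G₁ D₁ G₂ D₂ hform hD hiso
  have key : ∀ u w : Fin k₁ ⊕ Fin k₂ → F,
      (D₁ *ᵥ (u ∘ Sum.inl)) ⬝ᵥ G₁ *ᵥ (D₁ *ᵥ (w ∘ Sum.inl)) +
        (D₂ *ᵥ (u ∘ Sum.inr)) ⬝ᵥ G₂ *ᵥ (D₂ *ᵥ (w ∘ Sum.inr)) =
      (u ∘ Sum.inl) ⬝ᵥ G₁ *ᵥ (w ∘ Sum.inl) + (u ∘ Sum.inr) ⬝ᵥ G₂ *ᵥ (w ∘ Sum.inr) := by
    intro u w
    have h1 := dot_isom G D (J u) (J w)
    rw [hiso, hD u, hD w, hform, hform] at h1
    simpa using h1
  constructor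
  · apply eq_of_forall_dot
    intro v w
    have h := key (Sum.elim v 0) (Sum.elim w 0)
    rw [← dot_isom]
    simpa using h
  · apply eq_of_forall_dot
    intro v w
    have h := key (Sum.elim 0 v) (Sum.elim 0 w)
    rw [← dot_isom]
    simpa using h

end Cfsg.Agent.Lib.Helper13.PGGBF
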