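import Mathlib
import Cfsg.Agent.Lib.Helper44.PGStmt

/-!
# S2474, piece UNIP3: a unipotent isometry in dimension 3
-/

set_option autoImplicit false

namespace Cfsg.Agent.Lib.Helper13.PGUNIP3

open Matrix
open Cfsg.Agent.Lib.Helper44.OExt
open Cfsg.Agent.Lib.Helper44.PGStmt

universe u

theorem main : Unip3.{u} := by
  intro F _ p _ _ h2
  have hp : p.Prime := Fact.out
  have hp3 : 3 ≤ p := by
    have hp2 : p ≠ 2 := by
      intro h
      apply h2
      have h0 := CharP.cast_eq_zero F p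
      rw [h] at h0
      exact_mod_cast h0
    have h1 := hp.two_le
    omega
  refine ⟨!![1, 0, 0; 0, 0, 1; 0, 0, 0], !![1, 0, 1; -2, 1, -1; 0, 0, 1], ?_, ?_, ?_, ?_⟩
  · have h : ((!![1, 0, 0; 0, 0, 1; 0, 0, 0] : Matrix (Fin 3) (Fin 3) F) +
        (!![1, 0, 0; 0, 0, 1; 0, 0, 0] : Matrix (Fin 3) (Fin 3) F)ᵀ).det = -2 := by
      rw [Matrix.det_fin_three]
      simp [Matrix.transpose_apply]
      ring
    rw [h]; exact neg_ne_zero.mpr h2
  · intro u
    rw [qN_apply, qN_apply]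
    simp [dotProduct, Matrix.mulVec, Fin.sum_univ_three]
    ring
  · have hD : (!![1, 0, 1; -2, 1, -1; 0, 0, 1] : Matrix (Fin 3) (Fin 3) F) =
        1 + !![0, 0, 1; -2, 0, -1; 0, 0, 0] := by
      ext i j
      fin_cases i <;> fin_cases j <;> simp
    have hD3 : (!![0, 0, 1; -2, 0, -1; 0, 0, 0] : Matrix (Fin 3) (Fin 3) F) ^ 3 = 0 := by
      ext i j
      fin_cases i <;> fin_cases j <;>
        simp [pow_succ, Matrix.mul_apply, Fin.sum_univ_three]
    rw [hD, add_pow_char_of_commute p (Commute.one_left _), one_pow]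
    have hDp : (!![0, 0, 1; -2, 0, -1; 0, 0, 0] : Matrix (Fin 3) (Fin 3) F) ^ p = 0 := by
      rw [show p = 3 + (p - 3) by omega, pow_add, hD3, zero_mul]
    rw [hDp, add_zero]
  · intro h
    have h0 := congrFun (congrFun h 0) 2
    simp at h0

end Cfsg.Agent.Lib.Helper13.PGUNIP3
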