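import Mathlib
import Cfsg.Agent.Lib.Helper18.ReeMultStmt
import Cfsg.Agent.Lib.Helper13.ReeMultCore

/-!
# S2113, piece TT: the commutator of lifts of `x t 0 0`, `x t' 0 0` is a canonical lift

`Pi g k`: `k ∈ ker σ` and `g = L u v * k` for some `u v` (the kernel component of an element of
the preimage of `A`).  The kernel component `Δ t t'` of `cm (x t 0 0) (x t' 0 0)` is biadditive,
antisymmetric and invariant under `(t, t') ↦ (c t, c t')` for every `c ≠ 0`, hence trivial.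
-/

set_option autoImplicit false

namespace Cfsg.Agent.Lib.Helper13.ReeMultTT

open scoped commutatorElement
open Cfsg.Agent.Lib.Helper18 Cfsg.Agent.Lib.Helper18.ReeMultStmt
open Cfsg.Agent.Lib.Helper13.ReeMultCore

universe u v w

section Abs

variable {Γ : Type w} [Group Γ] {G : Type u} [Group G] {K : Type v} [Field K]
  (σ : Γ →* G) (L : K → K → Γ) (x : K → K → K → G)

set_option linter.unusedSectionVars false

/-- `k` is the kernel component of `g`. -/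
def Pi (g k : Γ) : Prop := k ∈ σ.ker ∧ ∃ u v, g = L u v * k

variable (hc : σ.ker ≤ Subgroup.center Γ) (hL1 : ∀ u v, σ (L u v) = x 0 u v)
  (hL2 : ∀ u v u' v', L u v * L u' v' = L (u + u') (v + v'))
  (hinj : ∀ u v u' v', x 0 u v = x 0 u' v' → u = u' ∧ v = v')

include hL1 hinj in
theorem Pi_unique {g k k' : Γ} (h : Pi σ L g k) (h' : Pi σ L g k') : k = k' := by
  obtain ⟨hk, u, v, rfl⟩ := h
  obtain ⟨hk', u', v', h2⟩ := h'
  have h3 := congrArg σ h2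
  rw [map_mul, map_mul, MonoidHom.mem_ker.mp hk, MonoidHom.mem_ker.mp hk', mul_one, mul_one,
    hL1, hL1] at h3
  obtain ⟨hu, hv⟩ := hinj _ _ _ _ h3
  rw [hu, hv] at h2
  exact mul_left_cancel h2

include hc hL2 in
theorem Pi_mul {g k g' k' : Γ} (h : Pi σ L g k) (h' : Pi σ L g' k') :
    Pi σ L (g * g') (k * k') := by
  obtain ⟨hk, u, v, rfl⟩ := h
  obtain ⟨hk', u', v', rfl⟩ := h'
  refine ⟨Subgroup.mul_mem _ hk hk', u + u', v + v', ?_⟩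
  have h1 : L u' v' * k = k * L u' v' := Subgroup.mem_center_iff.mp (hc hk) _
  rw [← hL2]
  calc L u v * k * (L u' v' * k') = L u v * (k * L u' v') * k' := by group
    _ = L u v * (L u' v' * k) * k' := by rw [h1]
    _ = L u v * L u' v' * (k * k') := by group

include hc hL2 in
theorem Pi_inv {g k : Γ} (h : Pi σ L g k) : Pi σ L g⁻¹ k⁻¹ := by
  obtain ⟨hk, u, v, rfl⟩ := h
  refine ⟨Subgroup.inv_mem _ hk, -u, -v, ?_⟩
  have h1 : (L u v)⁻¹ * k⁻¹ = k⁻¹ * (L u v)⁻¹ :=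
    Subgroup.mem_center_iff.mp (hc (Subgroup.inv_mem _ hk)) _
  rw [← L_inv L hL2, mul_inv_rev, h1]

include hc in
theorem Pi_conj {g k : Γ} (γ : Γ) (hγ : ∀ u v, ∃ u' v', γ * L u v * γ⁻¹ = L u' v')
    (h : Pi σ L g k) : Pi σ L (γ * g * γ⁻¹) k := by
  obtain ⟨hk, u, v, rfl⟩ := h
  obtain ⟨u', v', h2⟩ := hγ u v
  refine ⟨hk, u', v', ?_⟩
  have h1 : γ⁻¹ * k = k * γ⁻¹ := Subgroup.mem_center_iff.mp (hc hk) _
  rw [← h2]
  calc γ * (L u v * k) * γ⁻¹ = γ * L u v * (k * γ⁻¹) := by group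
    _ = γ * L u v * (γ⁻¹ * k) := by rw [h1]
    _ = γ * L u v * γ⁻¹ * k := by group

theorem Pi_L (u v : K) : Pi σ L (L u v) 1 :=
  ⟨Subgroup.one_mem _, u, v, (mul_one _).symm⟩

include hL1 in
theorem Pi_exists {g : Γ} {u v : K} (h : σ g = x 0 u v) : ∃ k, Pi σ L g k := by
  refine ⟨(L u v)⁻¹ * g, ?_, u, v, by group⟩
  rw [MonoidHom.mem_ker, map_mul, map_inv, hL1, h, inv_mul_cancel]

end Abs

theorem comm_expand3 {Γ : Type w} [Group Γ] (p₁ p₂ α q : Γ) :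
    ⁅p₁ * p₂ * α, q⁆ = ((p₁ * p₂) * ⁅α, q⁆ * (p₁ * p₂)⁻¹) * (p₁ * ⁅p₂, q⁆ * p₁⁻¹) * ⁅p₁, q⁆ := by
  simp only [commutatorElement_def]
  group

theorem main (hLMAP : LMAP.{u, v, w}) (hLMUL : LMUL.{u, v, w}) (hLCONJH : LCONJH.{u, v, w}) :
    TT.{u, v, w} := by
  intro Γ _ G _ K _ _ m φ x e σ E s₁ hs0 hs3 hZ hA hC
  have hL1 : ∀ u v, σ (lft σ E.surj φ x e s₁ u v) = x 0 u v :=
    hLMAP Γ G K m φ x e σ E s₁ hs0 hs3
  have hL2 : ∀ u v u' v', lft σ E.surj φ x e s₁ u v * lft σ E.surj φ x e s₁ u' v' =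
      lft σ E.surj φ x e s₁ (u + u') (v + v') :=
    hLMUL Γ G K m φ x e σ E s₁ hs0 hs3 hA
  have hL4 : ∀ (γ : Γ) (s : K), s ≠ 0 → σ γ = e s → ∀ u v,
      γ * lft σ E.surj φ x e s₁ u v * γ⁻¹ = lft σ E.surj φ x e s₁ (φ s ^ 3 / s * u) (s * v) :=
    hLCONJH Γ G K m φ x e σ E s₁ hs0
  obtain ⟨L, hL⟩ : ∃ L : K → K → Γ, L = lft σ E.surj φ x e s₁ := ⟨_, rfl⟩
  rw [← hL] at hL1 hL2 hL4 hC ⊢
  have hinj : ∀ u v u' v', x 0 u v = x 0 u' v' → u = u' ∧ v = v' :=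
    fun u v u' v' h => (E.par.x_inj _ _ _ _ _ _ h).2
  have hcen := E.cen
  -- conjugation by lifts of elements of `U`
  have hCU : ∀ (γ : Γ) (t u₀ v₀ : K), σ γ = x t u₀ v₀ →
      ∀ u v, ∃ u' v', γ * L u v * γ⁻¹ = L u' v' :=
    fun γ t u₀ v₀ h u v => ⟨u, v + u * t, hC γ t u₀ v₀ h u v⟩
  have hCH : ∀ (γ : Γ) (s : K), s ≠ 0 → σ γ = e s →
      ∀ u v, ∃ u' v', γ * L u v * γ⁻¹ = L u' v' :=
    fun γ s hs h u v => ⟨_, _, hL4 γ s hs h u v⟩
  -- the kernel components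
  have hex : ∀ t t', ∃ k, Pi σ L (cm σ E.surj (x t 0 0) (x t' 0 0)) k := by
    intro t t'
    obtain ⟨a, b, hab⟩ := x_comm E.par t t'
    exact Pi_exists σ L x hL1 (by rw [map_cm, hab])
  choose Δ hΔ using hex
  have hΔc : ∀ t t' (g : Γ), g * Δ t t' = Δ t t' * g :=
    fun t t' g => Subgroup.mem_center_iff.mp (hcen (hΔ t t').1) g
  -- additivity in the first variable
  have D1 : ∀ t t₂ t', Δ (t + t₂) t' = Δ t t' * Δ t₂ t' := by
    intro t t₂ t'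
    obtain ⟨u₀, v₀, h0⟩ : ∃ u₀ v₀, x t 0 0 * x t₂ 0 0 = x (t + t₂) u₀ v₀ :=
      ⟨_, _, E.par.x_mul t 0 0 t₂ 0 0⟩
    have hp₁ : σ (sec σ E.surj (x t 0 0)) = x t 0 0 := sec_spec σ E.surj _
    have hp₂ : σ (sec σ E.surj (x t₂ 0 0)) = x t₂ 0 0 := sec_spec σ E.surj _
    have hq : σ (sec σ E.surj (x t' 0 0)) = x t' 0 0 := sec_spec σ E.surj _
    have e1 : σ (sec σ E.surj (x (t + t₂) 0 0)) =
        σ (sec σ E.surj (x t 0 0) * sec σ E.surj (x t₂ 0 0) * (L u₀ v₀)⁻¹) := by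
      rw [sec_spec, map_mul, map_mul, map_inv, hp₁, hp₂, hL1, h0, ← x_split E.par (t + t₂) u₀ v₀,
        mul_inv_cancel_right]
    have e2 : cm σ E.surj (x (t + t₂) 0 0) (x t' 0 0) =
        ⁅sec σ E.surj (x t 0 0) * sec σ E.surj (x t₂ 0 0) * (L u₀ v₀)⁻¹,
          sec σ E.surj (x t' 0 0)⁆ :=
      Cfsg.Agent.Lib.Helper35.Stem.commutator_eq_of_map_eq σ hcen e1 rfl
    have h12 : σ (sec σ E.surj (x t 0 0) * sec σ E.surj (x t₂ 0 0)) = x (t + t₂) u₀ v₀ := by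
      rw [map_mul, hp₁, hp₂, h0]
    -- the three factors
    have f1 : Pi σ L ⁅(L u₀ v₀)⁻¹, sec σ E.surj (x t' 0 0)⁆ 1 := by
      have e3 : ⁅(L u₀ v₀)⁻¹, sec σ E.surj (x t' 0 0)⁆ =
          (L u₀ v₀)⁻¹ * (sec σ E.surj (x t' 0 0) * L u₀ v₀ * (sec σ E.surj (x t' 0 0))⁻¹) := by
        simp only [commutatorElement_def]
        group
      rw [e3, hC _ t' 0 0 hq, L_inv L hL2, hL2]
      exact Pi_L σ L _ _
    have f1' := Pi_conj σ L hcen _ (hCU _ _ _ _ h12) f1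
    have f2 : Pi σ L (sec σ E.surj (x t 0 0) *
        ⁅sec σ E.surj (x t₂ 0 0), sec σ E.surj (x t' 0 0)⁆ * (sec σ E.surj (x t 0 0))⁻¹)
        (Δ t₂ t') := Pi_conj σ L hcen _ (hCU _ _ _ _ hp₁) (hΔ t₂ t')
    have f3 : Pi σ L ⁅sec σ E.surj (x t 0 0), sec σ E.surj (x t' 0 0)⁆ (Δ t t') := hΔ t t'
    have f := Pi_mul σ L hcen hL2 (Pi_mul σ L hcen hL2 f1' f2) f3
    rw [← comm_expand3, ← e2, one_mul] at f
    rw [Pi_unique σ L x hL1 hinj (hΔ (t + t₂) t') f]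
    exact hΔc t t' _
  -- antisymmetry
  have D2 : ∀ t t', Δ t' t = (Δ t t')⁻¹ := by
    intro t t'
    have h1 := Pi_inv σ L hcen hL2 (hΔ t t')
    rw [cm_inv] at h1
    exact Pi_unique σ L x hL1 hinj (hΔ t' t) h1
  -- additivity in the second variable
  have D1' : ∀ t t' t₂, Δ t (t' + t₂) = Δ t t' * Δ t t₂ := by
    intro t t' t₂
    rw [D2 (t' + t₂) t, D1, mul_inv_rev, ← D2, ← D2]
    exact hΔc _ _ _
  -- invariance
  have D3 : ∀ c : K, c ≠ 0 → ∀ t t', Δ (c * t) (c * t') = Δ t t' := by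
    intro c hc0 t t'
    have hφc : φ c ≠ 0 := (map_ne_zero φ).mpr hc0
    obtain ⟨s, hs⟩ : ∃ s : K, s = c ^ 2 * φ c ^ 3 := ⟨_, rfl⟩
    have hs0' : s ≠ 0 := by
      rw [hs]
      exact mul_ne_zero (pow_ne_zero _ hc0) (pow_ne_zero _ hφc)
    have hχ : s ^ 2 / φ s ^ 3 = c := by
      have h1 : φ s ^ 3 = φ c ^ 6 * c ^ 3 := by
        rw [hs, map_mul, map_pow, map_pow, mul_pow, ← pow_mul, ← pow_mul,
          show 3 * 3 = 3 * 3 from rfl, pow_mul (φ (φ c)) 3 3, E.par.phi3]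
      rw [h1, hs]
      field_simp
    have hγ : σ (sec σ E.surj (e s)) = e s := sec_spec σ E.surj _
    have h2 := Pi_conj σ L hcen _ (hCH _ s hs0' hγ) (hΔ t t')
    rw [conj_cm σ E.surj hcen, hγ, e_conj E.par s hs0', e_conj E.par s hs0', hχ] at h2
    exact Pi_unique σ L x hL1 hinj (hΔ (c * t) (c * t')) h2
  -- the final computation with `c = s₁`
  have h3 : (3 : K) = 0 := E.par.char3
  have hc1 : (1 : K) + s₁ ≠ 0 := by
    intro h
    apply hs3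
    have : s₁ = -1 := by linear_combination h
    rw [this]
    ring
  have hcm : s₁ - 1 ≠ 0 := by
    intro h
    apply hs3
    have : s₁ = 1 := by linear_combination h
    rw [this]
    ring
  obtain ⟨Ec, hEc⟩ : ∃ Ec : K, Ec = 1 + s₁⁻¹ - (1 + s₁)⁻¹ := ⟨_, rfl⟩
  have hE0 : Ec ≠ 0 := by
    have h4 : Ec * (s₁ * (1 + s₁)) = (s₁ - 1) ^ 2 := by
      rw [hEc]
      field_simp
      linear_combination s₁ * h3
    intro h
    rw [h, zero_mul] at h4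
    exact pow_ne_zero 2 hcm h4.symm
  have key : ∀ a b, Δ a (Ec * b) = 1 := by
    intro a b
    have h1 : Δ (s₁ * a) b = Δ a (s₁⁻¹ * b) := by
      have := D3 s₁ hs0 a (s₁⁻¹ * b)
      rwa [mul_inv_cancel_left₀ hs0] at this
    have h2 : Δ ((1 + s₁) * a) b = Δ a ((1 + s₁)⁻¹ * b) := by
      have := D3 (1 + s₁) hc1 a ((1 + s₁)⁻¹ * b)
      rwa [mul_inv_cancel_left₀ hc1] at this
    have h5 : Δ ((1 + s₁) * a) b = Δ a (b + s₁⁻¹ * b) := by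
      rw [add_mul, one_mul, D1, h1, ← D1']
    have h6 : b + s₁⁻¹ * b = (1 + s₁)⁻¹ * b + Ec * b := by
      rw [hEc]
      ring
    rw [h2, h6, D1'] at h5
    exact (left_eq_mul.mp h5)
  intro t t'
  have h7 : Δ t t' = 1 := by
    have := key t (Ec⁻¹ * t')
    rwa [mul_inv_cancel_left₀ hE0] at this
  obtain ⟨_, u, v, huv⟩ := hΔ t t'
  rw [h7, mul_one] at huv
  exact ⟨u, v, huv⟩

end Cfsg.Agent.Lib.Helper13.ReeMultTT
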