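import Mathlib
import Cfsg.Agent.Lib.Helper93.S64Stmt
import Cfsg.Agent.Lib.Helper76.PSolv

/-!
# S1364 / LE3 (call by helper93): `U = ⊥`: `Ks ≤ M_F`, from `SylNormal`, `GlueA`, `GlueB`.
-/

set_option autoImplicit false

universe u

namespace Cfsg.Agent.Lib.Helper13.S64LE3

open Cfsg.Agent.Lib.Helper93.S64Stmt

theorem main (hS : SylNormal.{u}) (hA : GlueA.{u}) (hB : GlueB.{u}) : Le3.{u} := by
  intro G _ _ hG M K U hM hKU hK hU x hx
  have setA := hA hG M K U hM hKU hK hU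
  have setB := hB hG M K U hM hKU hK hU
  obtain ⟨q, hq⟩ : ∃ q : ℕ, q = Nat.card ↥(Cfsg.sigmaCore M ⊓ Subgroup.centralizer (K : Set G)) :=
    ⟨_, rfl⟩
  rw [← hq] at setB
  obtain ⟨H, hH⟩ : ∃ H : Subgroup ↥M, H = Cfsg.piCore (Cfsg.sigma M) ↥M := ⟨_, rfl⟩
  rw [← hH] at setA setB
  have hHn : H.Normal := by
    rw [hH]
    infer_instance
  obtain ⟨hnd, hle⟩ := hS H (K.subgroupOf M) q setA setB
  have hqp : q.Prime := setB.qprime
  have : Fact q.Prime := ⟨hqp⟩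
  -- `O` is a normal nilpotent Hall subgroup of `M`
  have hOp : IsPGroup q ↥(Oq ↥M H q) :=
    (Cfsg.Agent.Lib.Helper76.PSolv.pCore_isPGroup (G := ↥M) q).to_le inf_le_left
  have hOnil : Group.IsNilpotent ↥(Oq ↥M H q) := hOp.isNilpotent
  have hOcop : (Nat.card ↥(Oq ↥M H q)).Coprime (Oq ↥M H q).index := by
    obtain ⟨n, hn⟩ := (IsPGroup.iff_card (p := q)).mp hOp
    rw [hn]
    exact Nat.Coprime.pow_left n ((Nat.Prime.coprime_iff_not_dvd hqp).mpr hnd)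
  have hOle : Oq ↥M H q ≤ Cfsg.fittingHall ↥M :=
    le_sSup ⟨Oq_normal ↥M H q, hOnil, hOcop⟩
  -- the element
  obtain ⟨hx1, hx2⟩ := hx
  have hx1' : x ∈ (Cfsg.piCore (Cfsg.sigma M) ↥M).map M.subtype := hx1
  rw [← hH] at hx1'
  obtain ⟨y, hy, rfl⟩ := hx1'
  have hyC : y ∈ Subgroup.centralizer ((K.subgroupOf M : Subgroup ↥M) : Set ↥M) := by
    rw [Subgroup.mem_centralizer_iff]
    intro k hk
    have hk' : (k : G) ∈ K := Subgroup.mem_subgroupOf.mp hk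
    have h := (Subgroup.mem_centralizer_iff.mp hx2) (k : G) hk'
    apply Subtype.ext
    exact h
  have hyO : y ∈ Oq ↥M H q := hle ⟨hy, hyC⟩
  exact ⟨y, hOle hyO, rfl⟩

end Cfsg.Agent.Lib.Helper13.S64LE3
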