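import Mathlib
import Cfsg.Agent.Lib.Helper54.S72Stmt

/-!
# S1372 / TSYL (call by helper54)

`S ≤ M` nilpotent and normalized by `M`, `x ∈ S` of prime order `t`: the Sylow `t`-subgroup of `S`
containing `x` is normal in `S`, hence the set of all `t`-elements of `S`, and its image in `G` is
normalized by `M`.
-/

set_option autoImplicit false

universe u

namespace Cfsg.Agent.Lib.Helper13.S72TSYL

open Cfsg.Agent.Lib.Helper54.S72Stmt

theorem isPGroup_zpowers {H : Type*} [Group H] (t : ℕ) (y : H) (k : ℕ) (hk : y ^ t ^ k = 1) :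
    IsPGroup t (Subgroup.zpowers y) := by
  intro g
  obtain ⟨j, hj⟩ := Subgroup.mem_zpowers_iff.mp g.2
  refine ⟨k, ?_⟩
  apply Subtype.ext
  rw [Subgroup.coe_pow, ← hj, ← zpow_natCast, ← zpow_mul, mul_comm, zpow_mul, zpow_natCast, hk,
    one_zpow]
  rfl

theorem main : TSyl.{u} := by
  intro G _ _ M S hSM hMN hnil t _ x hx hxt
  classical
  obtain ⟨x', hx'⟩ : ∃ x' : ↥S, (x' : G) = x := ⟨⟨x, hx⟩, rfl⟩
  have hx'pow : x' ^ t ^ 1 = 1 := by
    apply Subtype.ext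
    rw [Subgroup.coe_pow, hx', pow_one, ← hxt, pow_orderOf_eq_one]
    rfl
  obtain ⟨T₀, hT₀⟩ := (isPGroup_zpowers t x' 1 hx'pow).exists_le_sylow
  have hx'T : x' ∈ (T₀ : Subgroup ↥S) := hT₀ (Subgroup.mem_zpowers x')
  have hnormal : (T₀ : Subgroup ↥S).Normal :=
    ((Group.isNilpotent_of_finite_tfae (G := ↥S)).out 0 3 rfl rfl).mp hnil t inferInstance T₀
  have key : ∀ y : ↥S, (∃ k : ℕ, y ^ t ^ k = 1) → y ∈ (T₀ : Subgroup ↥S) := by
    rintro y ⟨k, hk⟩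
    obtain ⟨T₁, hT₁⟩ := (isPGroup_zpowers t y k hk).exists_le_sylow
    have huniq := Sylow.unique_of_normal T₀ hnormal
    have h1 : T₁ = T₀ := Subsingleton.elim _ _
    rw [← h1]
    exact hT₁ (Subgroup.mem_zpowers y)
  refine ⟨T₀, ⟨x', hx'T, hx'⟩, ?_⟩
  have hconj : ∀ m ∈ M, ∀ g ∈ (T₀ : Subgroup ↥S).map S.subtype,
      m * g * m⁻¹ ∈ (T₀ : Subgroup ↥S).map S.subtype := by
    intro m hm g hg
    obtain ⟨y, hy, rfl⟩ := hg
    have hmS : m * (y : G) * m⁻¹ ∈ S :=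
      (Subgroup.mem_normalizer_iff.mp (hMN hm) (y : G)).mp y.2
    obtain ⟨k, hk⟩ := T₀.isPGroup' ⟨y, hy⟩
    have hyk : y ^ t ^ k = 1 := by
      have h2 := congrArg Subtype.val hk
      simpa using h2
    refine ⟨⟨m * (y : G) * m⁻¹, hmS⟩, key _ ⟨k, ?_⟩, rfl⟩
    apply Subtype.ext
    rw [Subgroup.coe_pow]
    show (m * (y : G) * m⁻¹) ^ t ^ k = 1
    rw [conj_pow, ← Subgroup.coe_pow, hyk]
    simp
  intro m hm
  rw [Subgroup.mem_normalizer_iff]
  intro g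
  constructor
  · exact hconj m hm g
  · intro hg
    have h3 := hconj m⁻¹ (M.inv_mem hm) _ hg
    simpa [mul_assoc] using h3

end Cfsg.Agent.Lib.Helper13.S72TSYL
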