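import Mathlib
import Cfsg.Agent.Lib.Helper22.S81Stmt

/-!
# S1381 / UNIL (helper13, spare seat): a commutative subgroup is nilpotent
-/

set_option autoImplicit false

namespace Cfsg.Agent.Lib.Helper13.S81UNIL

universe u

open Cfsg.Agent.Lib.Helper22.S81Stmt

theorem main : UNil.{u} := by
  intro G _ U hU
  let _ : CommGroup ↥U :=
    { (inferInstance : Group ↥U) with mul_comm := fun a b => hU.is_comm.comm a b }
  exact CommGroup.isNilpotent

end Cfsg.Agent.Lib.Helper13.S81UNIL
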