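import Mathlib
import Cfsg.Agent.Lib.Helper49.S82Stmt
import Cfsg.Agent.Lib.Helper62.S89Stmt
import Cfsg.Agent.Lib.Helper93.S64Stmt

/-!
# S1382 / NDLE (helper13, spare seat with a light closure)

`main_of (hNS : Helper62.S89Stmt.NSig) (hFH : Helper93.S64Stmt.FHHall) : NDLe`; plug
`Cfsg.Agent.Lib.Helper47.S89NSIG.main` and `Cfsg.Agent.Lib.Helper17.S64FHHALL.main`.
-/

set_option autoImplicit false

namespace Cfsg.Agent.Lib.Helper13.S82NDLE

universe u

open Cfsg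

/-- an element of `p`-power order lies in a normal Sylow `p`-subgroup -/
theorem mem_of_normal_sylow {H : Type*} [Group H] [Finite H] {p : ℕ} [Fact p.Prime]
    (P : Sylow p H) (hn : (P : Subgroup H).Normal) (y : H) (k : ℕ) (hy : y ^ (p ^ k) = 1) :
    y ∈ (P : Subgroup H) := by
  have hp : p.Prime := Fact.out
  obtain ⟨j, -, hj⟩ := (Nat.dvd_prime_pow hp).1 (orderOf_dvd_of_pow_eq_one hy)
  have hpg : IsPGroup p ↥(Subgroup.zpowers y) :=
    IsPGroup.of_card (n := j) (by rw [Nat.card_zpowers, hj])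
  obtain ⟨Q, hQ⟩ := hpg.exists_le_sylow
  have hu := Sylow.unique_of_normal P hn
  have hQP : Q = P := Subsingleton.elim Q P
  rw [← hQP]
  exact hQ (Subgroup.mem_zpowers y)

theorem core {G : Type u} [Group G] [Finite G] (M Ms F D : Subgroup G) (hMsM : Ms ≤ M)
    (hFidx : ∃ n, Nat.card ↥M = Nat.card ↥F * n ∧ (Nat.card ↥F).Coprime n)
    (hNS : ∀ (p : ℕ), p.Prime → ∀ (P : Sylow p ↥Ms), (P : Subgroup ↥Ms) ≠ ⊥ →
      Subgroup.normalizer ((((P : Subgroup ↥Ms).map Ms.subtype : Subgroup G)) : Set G) ≤ M)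
    (hD : D ≠ ⊥) (hnil : Group.IsNilpotent ↥D) (hc : Cfsg.IsComplIn F D Ms) :
    Subgroup.normalizer (D : Set G) ≤ M := by
  obtain ⟨hFMs, hDMs, hFD, hprod⟩ := hc
  -- `|Ms| = |F| * |D|`
  have hcard : Nat.card ↥Ms = Nat.card ↥F * Nat.card ↥D := by
    have hbij : Function.Bijective
        (fun ab : ↥F × ↥D => (⟨(ab.1 : G) * (ab.2 : G),
          Ms.mul_mem (hFMs ab.1.2) (hDMs ab.2.2)⟩ : ↥Ms)) := by
      constructor
      · rintro ⟨a, b⟩ ⟨a', b'⟩ h
        have h' : (a : G) * (b : G) = (a' : G) * (b' : G) := congrArg Subtype.val h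
        have h1 : (a' : G)⁻¹ * (a : G) = (b' : G) * (b : G)⁻¹ := by
          rw [inv_mul_eq_iff_eq_mul, ← mul_assoc, eq_mul_inv_iff_mul_eq]
          exact h'
        have h2 : (a' : G)⁻¹ * (a : G) ∈ F ⊓ D :=
          ⟨F.mul_mem (F.inv_mem a'.2) a.2, h1 ▸ D.mul_mem b'.2 (D.inv_mem b.2)⟩
        rw [hFD] at h2
        have h3 : (a : G) = (a' : G) := by
          have := Subgroup.mem_bot.1 h2
          exact (inv_mul_eq_one.1 this).symm
        have h4 : (b : G) = (b' : G) := by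
          rw [h3] at h'
          exact mul_left_cancel h'
        exact Prod.ext (Subtype.ext h3) (Subtype.ext h4)
      · rintro ⟨m, hm⟩
        obtain ⟨a, ha, b, hb, rfl⟩ := hprod m hm
        exact ⟨(⟨a, ha⟩, ⟨b, hb⟩), rfl⟩
    rw [← Nat.card_congr (Equiv.ofBijective _ hbij), Nat.card_prod]
  -- a prime divisor of `|D|`
  have hD1 : Nat.card ↥D ≠ 1 := fun h => hD ((Subgroup.eq_bot_iff_card D).2 h)
  obtain ⟨p, hp, hpD⟩ := Nat.exists_prime_and_dvd hD1
  have : Fact p.Prime := ⟨hp⟩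
  -- `p ∤ |F|`
  obtain ⟨n, hn, hcop⟩ := hFidx
  have hpF : ¬ p ∣ Nat.card ↥F := by
    intro hpF
    have h1 : Nat.card ↥Ms ∣ Nat.card ↥M := Subgroup.card_dvd_of_le hMsM
    rw [hcard, hn] at h1
    have h2 : Nat.card ↥D ∣ n := (Nat.mul_dvd_mul_iff_left Nat.card_pos).1 h1
    exact hp.one_lt.ne' (Nat.eq_one_of_dvd_coprimes hcop hpF (hpD.trans h2))
  have hfac : (Nat.card ↥Ms).factorization p = (Nat.card ↥D).factorization p := by
    rw [hcard, Nat.factorization_mul Nat.card_pos.ne' Nat.card_pos.ne', Finsupp.add_apply,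
      Nat.factorization_eq_zero_of_not_dvd hpF, zero_add]
  -- the Sylow `p`-subgroup of `D`
  obtain ⟨P₀⟩ : Nonempty (Sylow p ↥D) := inferInstance
  have hall : ∀ (p : ℕ) (_hp : Fact p.Prime) (P : Sylow p ↥D), (P : Subgroup ↥D).Normal :=
    (Group.isNilpotent_of_finite_tfae.out 0 3).mp hnil
  have hP₀n : (P₀ : Subgroup ↥D).Normal := hall p inferInstance P₀
  obtain ⟨Pd, hPd⟩ : ∃ Pd : Subgroup G, Pd = (P₀ : Subgroup ↥D).map D.subtype := ⟨_, rfl⟩
  have hPdD : Pd ≤ D := by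
    rw [hPd]; exact Subgroup.map_subtype_le _
  have hPdcard : Nat.card ↥Pd = p ^ (Nat.card ↥D).factorization p := by
    rw [hPd, Subgroup.card_map_of_injective D.subtype_injective]
    exact P₀.card_eq_multiplicity
  have hPdMs : Pd ≤ Ms := hPdD.trans hDMs
  -- as a Sylow subgroup of `Ms`
  have hcardP : Nat.card ↥(Pd.subgroupOf Ms) = p ^ (Nat.card ↥Ms).factorization p := by
    rw [hfac, ← hPdcard]
    exact Nat.card_congr (Subgroup.subgroupOfEquivOfLe hPdMs).toEquiv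
  have hk : 0 < (Nat.card ↥D).factorization p :=
    hp.factorization_pos_of_dvd Nat.card_pos.ne' hpD
  have hPne : ((Sylow.ofCard (Pd.subgroupOf Ms) hcardP : Sylow p ↥Ms) : Subgroup ↥Ms) ≠ ⊥ := by
    rw [Sylow.coe_ofCard]
    intro h
    have h1 : Nat.card ↥(Pd.subgroupOf Ms) = 1 := (Subgroup.eq_bot_iff_card _).1 h
    have h3 : p ^ (Nat.card ↥D).factorization p = 1 := by
      rw [← hfac, ← hcardP]; exact h1
    have h2 : p ≤ p ^ (Nat.card ↥D).factorization p := by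
      calc p = p ^ 1 := (pow_one p).symm
        _ ≤ _ := Nat.pow_le_pow_right hp.pos hk
    have := hp.one_lt
    omega
  have hN := hNS p hp (Sylow.ofCard (Pd.subgroupOf Ms) hcardP) hPne
  rw [Sylow.coe_ofCard, Subgroup.map_subgroupOf_eq_of_le hPdMs] at hN
  refine le_trans ?_ hN
  -- `N(D) ≤ N(Pd)`
  have key : ∀ g ∈ Subgroup.normalizer (D : Set G), ∀ x ∈ Pd, g * x * g⁻¹ ∈ Pd := by
    intro g hg x hx
    have hxD : x ∈ D := hPdD hx
    have hyD : g * x * g⁻¹ ∈ D := (Subgroup.mem_normalizer_iff.1 hg x).1 hxD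
    rw [hPd] at hx
    obtain ⟨x', hx', rfl⟩ := hx
    obtain ⟨k, hk⟩ := P₀.isPGroup' ⟨x', hx'⟩
    have hxk : (x' : G) ^ (p ^ k) = 1 := by
      have := congrArg (fun t : ↥(P₀ : Subgroup ↥D) => ((t : ↥D) : G)) hk
      simpa using this
    have hyk : (⟨g * (x' : G) * g⁻¹, hyD⟩ : ↥D) ^ (p ^ k) = 1 := by
      apply Subtype.ext
      rw [Subgroup.coe_pow, Subgroup.coe_one, conj_pow, hxk, mul_one, mul_inv_cancel]
    have := mem_of_normal_sylow P₀ hP₀n ⟨g * (x' : G) * g⁻¹, hyD⟩ k hyk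
    rw [hPd]
    exact ⟨_, this, rfl⟩
  intro g hg
  rw [Subgroup.mem_normalizer_iff]
  intro x
  constructor
  · exact key g hg x
  · intro h
    have h1 := key g⁻¹ (Subgroup.inv_mem _ hg) _ h
    have h2 : g⁻¹ * (g * x * g⁻¹) * g⁻¹⁻¹ = x := by group
    rwa [h2] at h1

theorem main_of (hNS : Cfsg.Agent.Lib.Helper62.S89Stmt.NSig.{u})
    (hFH : Cfsg.Agent.Lib.Helper93.S64Stmt.FHHall.{u}) :
    Cfsg.Agent.Lib.Helper49.S82Stmt.NDLe.{u} := by
  intro G _ _ hG M D hM hD hnil hc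
  refine core M (Cfsg.sigmaCore M) (Cfsg.fittingHallOf M) D (Subgroup.map_subtype_le _) ?_
    (fun p hp P hP => hNS hG M hM p hp P hP) hD hnil hc
  refine ⟨(Cfsg.fittingHall ↥M).index, ?_, ?_⟩
  · have h1 : Nat.card ↥(Cfsg.fittingHallOf M) = Nat.card ↥(Cfsg.fittingHall ↥M) :=
      Subgroup.card_map_of_injective M.subtype_injective
    rw [h1, Subgroup.card_mul_index]
  · have h1 : Nat.card ↥(Cfsg.fittingHallOf M) = Nat.card ↥(Cfsg.fittingHall ↥M) :=
      Subgroup.card_map_of_injective M.subtype_injective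
    rw [h1]
    exact hFH

end Cfsg.Agent.Lib.Helper13.S82NDLE
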