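import Mathlib
import Cfsg.Agent.Lib.Helper41.TMTwoStmt
import Cfsg.Agent.Lib.Helper44.OTyp1
import Cfsg.Agent.Lib.Helper13.TM2TWOMINUS

/-!
# Char-free version of S5987 / TM2TWOMINUS (no `Odd (card F)` hypothesis)

`V = A ⊥ B` for the minus form (any finite field), `A`, `B` nondegenerate, `finrank A` even:
`A` or `B` is of plus type.  Same proof as `Helper13.TM2TWOMINUS.main`; the two uses of `2 ≠ 0`
are removed: the binary forms `z₀² + z₀ z₁ + ζ z₁²` are nondegenerate in every characteristic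
(Gram determinant `4 ζ - 1 ≠ 0` by anisotropy), and the nondegeneracy of the whole space follows
from the one of `A` and `B`.
-/

set_option autoImplicit false

universe u

open scoped Matrix

namespace Cfsg.Agent.Lib.Helper13.TwoMinusG

open Module QuadraticMap
open Cfsg.Agent.Lib.Helper41.TMTwoStmt
open Cfsg.Agent.Lib.Helper45.OMiStmt (M Aniso NDegM)
open Cfsg.Agent.Lib.Helper44.QSpace Cfsg.Agent.Lib.Helper44.QClass Cfsg.Agent.Lib.Helper44.OTyp1
open Cfsg.Agent.Lib.Helper44.NegPairs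
open Cfsg.Agent.Lib.Helper13.TM2TWOMINUS

theorem sep_binQ {F : Type u} [Field F] {ζ : F} (hζ : ∀ t : F, t ^ 2 + t + ζ ≠ 0) :
    Sep (binQ F ζ) := by
  intro x hx
  have hpol : ∀ y : Fin 2 → F, polar (binQ F ζ) x y =
      2 * x 0 * y 0 + x 0 * y 1 + x 1 * y 0 + 2 * ζ * x 1 * y 1 := by
    intro y
    unfold QuadraticMap.polar
    rw [binQ_apply, binQ_apply, binQ_apply]
    simp only [Pi.add_apply]
    ring
  have h0 := hx (Pi.single 0 1)
  have h1 := hx (Pi.single 1 1)
  rw [hpol] at h0 h1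
  simp at h0 h1
  have hx0 : x 0 * (1 - 4 * ζ) = 0 := by linear_combination h1 - 2 * ζ * h0
  rcases mul_eq_zero.mp hx0 with h3 | h3
  · funext i
    fin_cases i
    · exact h3
    · show x 1 = 0
      rw [h3] at h0
      simpa using h0
  · exfalso
    by_cases h2 : (2 : F) = 0
    · have h4 : (1 : F) = 0 := by linear_combination h3 + 2 * ζ * h2
      exact one_ne_zero h4
    · apply hζ (-(2 : F)⁻¹)
      field_simp
      linear_combination -h3

theorem sep_neg {F : Type*} [Field F] {V : Type u} [AddCommGroup V] [Module F V]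
    (Q : QuadraticForm F V) (h : Sep Q) : Sep (-Q) := by
  intro x hx
  apply h x
  intro y
  have h3 := hx y
  have e : polar (⇑(-Q)) x y = - polar (⇑Q) x y := by
    unfold QuadraticMap.polar
    simp only [QuadraticMap.neg_apply]
    ring
  rw [e] at h3
  exact neg_eq_zero.mp h3

/-- two anisotropic planes over a finite field are anti-isometric (any characteristic) -/
theorem exists_anti' {F : Type u} [Field F] [Fintype F] {ζ ζ' : F}
    (hζ : ∀ t : F, t ^ 2 + t + ζ ≠ 0) (hζ' : ∀ t : F, t ^ 2 + t + ζ' ≠ 0) :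
    ∃ φ : (Fin 2 → F) →ₗ[F] (Fin 2 → F), ∀ z, binQ F ζ' (φ z) = - binQ F ζ z := by
  have hA : ∀ v : Fin 2 → F, v ≠ 0 → binQ F ζ v ≠ 0 := fun v hv => binQ_ne_zero hζ hv
  have hB : ∀ v : Fin 2 → F, v ≠ 0 → (-binQ F ζ') v ≠ 0 := fun v hv => by
    rw [QuadraticMap.neg_apply]
    exact neg_ne_zero.mpr (binQ_ne_zero hζ' hv)
  have hfin : finrank F (Fin 2 → F) = 2 * (0 + 1) := by simp
  obtain ⟨j, hj⟩ := exists_iso (binQ F ζ) (-binQ F ζ') (sep_binQ hζ)
    (sep_neg _ (sep_binQ hζ')) hfin hfin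
    (by rw [card_sing_of_aniso _ hA, card_sing_of_aniso _ hB])
  refine ⟨j, fun z => ?_⟩
  have h3 := hj z
  rw [QuadraticMap.neg_apply] at h3
  linear_combination -h3

theorem main : ∀ (F : Type u) [Field F] [Fintype F] (d : ℕ), 1 ≤ d →
    ∀ (a b : F), Aniso a b →
    ∀ A B : Submodule F (M d → F), NDegM d F a b A → NDegM d F a b B →
    (∀ u ∈ A, ∀ v ∈ B, QuadraticMap.polar (Cfsg.quadFormMinus (d - 1) F a b) u v = 0) →
    A ⊔ B = ⊤ → Even (Module.finrank F ↥A) →
    PlusM d F a b A ∨ PlusM d F a b B := by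
  intro F _ _ d hd a b hab A B hA hB horth hsup hAeven
  classical
  by_contra hcon
  push Not at hcon
  obtain ⟨hnA, hnB⟩ := hcon
  obtain ⟨Q, hQdef⟩ : ∃ Q : QuadraticForm F (M d → F), Q = minusQ (d - 1) F a b := ⟨_, rfl⟩
  have hQ : ∀ v, Q v = Cfsg.quadFormMinus (d - 1) F a b v := fun v => by rw [hQdef]; rfl
  have hpolQ : ∀ u v, polar Q u v = polar (Cfsg.quadFormMinus (d - 1) F a b) u v := by
    intro u v
    unfold QuadraticMap.polar
    rw [hQ, hQ, hQ]
  have hA' : ∀ x ∈ A, (∀ y ∈ A, polar Q x y = 0) → x = 0 := by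
    intro x hx hxy
    by_contra hx0
    obtain ⟨-, ⟨y, hy, hy2⟩⟩ := hA x hx hx0
    exact hy2 (by rw [← hpolQ]; exact hxy y hy)
  have hB' : ∀ x ∈ B, (∀ y ∈ B, polar Q x y = 0) → x = 0 := by
    intro x hx hxy
    by_contra hx0
    obtain ⟨-, ⟨y, hy, hy2⟩⟩ := hB x hx hx0
    exact hy2 (by rw [← hpolQ]; exact hxy y hy)
  have hinf : A ⊓ B = ⊥ := by
    rw [Submodule.eq_bot_iff]
    rintro v ⟨hvA, hvB⟩
    apply hA' v hvA
    intro y hy
    rw [hpolQ, QuadraticMap.polar_comm]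
    exact horth y hy v hvB
  have hSV : Sep (minusQ (d - 1) F a b) := by
    rw [← hQdef]
    intro x hx
    have hxm : x ∈ A ⊔ B := by
      rw [hsup]
      exact Submodule.mem_top
    obtain ⟨xa, hxa, xb, hxb, rfl⟩ := Submodule.mem_sup.mp hxm
    have ha0 : xa = 0 := by
      apply hA' xa hxa
      intro y hy
      have h3 := hx y
      rw [QuadraticMap.polar_add_left] at h3
      have h4 : polar Q xb y = 0 := by
        rw [hpolQ, QuadraticMap.polar_comm]
        exact horth y hy xb hxb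
      rw [h4, add_zero] at h3
      exact h3
    have hb0 : xb = 0 := by
      apply hB' xb hxb
      intro y hy
      have h3 := hx y
      rw [QuadraticMap.polar_add_left] at h3
      have h4 : polar Q xa y = 0 := by
        rw [hpolQ]
        exact horth xa hxa y hy
      rw [h4, zero_add] at h3
      exact h3
    rw [ha0, hb0, add_zero]
  have hdimV : finrank F (M d → F) = 2 * d := by
    rw [Module.finrank_fintype_fun_eq_card]
    simp [M]
    omega
  have hdim : finrank F A + finrank F B = 2 * d := by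
    have h3 := Submodule.finrank_sup_add_finrank_inf_eq A B
    rw [hsup, hinf, finrank_top, finrank_bot, add_zero, hdimV] at h3
    exact h3.symm
  obtain ⟨e, he⟩ := hAeven
  have hbotTS : TSubM d F a b (⊥ : Submodule F (M d → F)) := by
    intro w hw
    rw [(Submodule.mem_bot F).mp hw, ← hQ]
    exact map_zero Q
  have he1 : 1 ≤ e := by
    by_contra h
    apply hnA
    refine ⟨⊥, bot_le, hbotTS, ?_⟩
    rw [finrank_bot]
    omega
  have hf1 : 1 ≤ d - e := by
    by_contra h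
    apply hnB
    refine ⟨⊥, bot_le, hbotTS, ?_⟩
    rw [finrank_bot]
    omega
  obtain ⟨k, hk⟩ : ∃ k, e = k + 1 := ⟨e - 1, by omega⟩
  obtain ⟨l, hl⟩ : ∃ l, d - e = l + 1 := ⟨d - e - 1, by omega⟩
  have hkA : finrank F A = 2 * (k + 1) := by omega
  have hlB : finrank F B = 2 * (l + 1) := by omega
  rcases dich Q A hA' k hkA with ⟨U, hUA, hUts, hUd⟩ | ⟨ΨA, ζA, hζA, hΨA⟩
  · exact hnA ⟨U, hUA, fun w hw => by rw [← hQ]; exact hUts w hw, hUd⟩
  rcases dich Q B hB' l hlB with ⟨U, hUB, hUts, hUd⟩ | ⟨ΨB, ζB, hζB, hΨB⟩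
  · exact hnB ⟨U, hUB, fun w hw => by rw [← hQ]; exact hUts w hw, hUd⟩
  obtain ⟨φ, hφ⟩ := exists_anti' hζA hζB
  obtain ⟨L, hL⟩ : ∃ L : (((Fin k → F) × (Fin l → F)) × (Fin 2 → F)) →ₗ[F] (M d → F),
      ∀ w, L w = ((ΨA.symm (inc F k (w.1.1, w.2)) : ↥A) : M d → F) +
        ((ΨB.symm (inc F l (w.1.2, φ w.2)) : ↥B) : M d → F) :=
    ⟨A.subtype ∘ₗ ΨA.symm.toLinearMap ∘ₗ inc F k ∘ₗ
        (LinearMap.prod (LinearMap.fst F _ _ ∘ₗ LinearMap.fst F _ _) (LinearMap.snd F _ _)) +
      B.subtype ∘ₗ ΨB.symm.toLinearMap ∘ₗ inc F l ∘ₗ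
        (LinearMap.prod (LinearMap.snd F _ _ ∘ₗ LinearMap.fst F _ _)
          (φ ∘ₗ LinearMap.snd F _ _)), fun w => rfl⟩
  have hQA : ∀ w : (Fin k → F) × (Fin 2 → F),
      Q ((ΨA.symm (inc F k w) : ↥A) : M d → F) = binQ F ζA w.2 := by
    intro w
    rw [hΨA, LinearEquiv.apply_symm_apply]
    have h3 : (∑ i, inc F k w (.inl (.inl i)) * inc F k w (.inl (.inr i))) = 0 := by
      apply Finset.sum_eq_zero
      intro i _
      rw [inc_lr, mul_zero]
    rw [h3, zero_add]
    rfl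
  have hQB : ∀ w : (Fin l → F) × (Fin 2 → F),
      Q ((ΨB.symm (inc F l w) : ↥B) : M d → F) = binQ F ζB w.2 := by
    intro w
    rw [hΨB, LinearEquiv.apply_symm_apply]
    have h3 : (∑ i, inc F l w (.inl (.inl i)) * inc F l w (.inl (.inr i))) = 0 := by
      apply Finset.sum_eq_zero
      intro i _
      rw [inc_lr, mul_zero]
    rw [h3, zero_add]
    rfl
  have hTS : ∀ w ∈ LinearMap.range L, minusQ (d - 1) F a b w = 0 := by
    rintro _ ⟨w, rfl⟩
    rw [← hQdef, hL, QuadraticMap.map_add (⇑Q) _ _, hQA, hQB, hφ, hpolQ,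
      horth _ (ΨA.symm (inc F k (w.1.1, w.2))).2 _ (ΨB.symm (inc F l (w.1.2, φ w.2))).2]
    ring
  have hLinj : Function.Injective L := by
    rw [injective_iff_map_eq_zero]
    intro w hw
    rw [hL] at hw
    have ha : ((ΨA.symm (inc F k (w.1.1, w.2)) : ↥A) : M d → F) ∈ A ⊓ B := by
      refine ⟨(ΨA.symm (inc F k (w.1.1, w.2))).2, ?_⟩
      rw [eq_neg_of_add_eq_zero_left hw]
      exact B.neg_mem (ΨB.symm (inc F l (w.1.2, φ w.2))).2
    rw [hinf] at ha
    have ha0 : ((ΨA.symm (inc F k (w.1.1, w.2)) : ↥A) : M d → F) = 0 :=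
      (Submodule.mem_bot F).mp ha
    have hb0 : ((ΨB.symm (inc F l (w.1.2, φ w.2)) : ↥B) : M d → F) = 0 := by
      rw [ha0, zero_add] at hw
      exact hw
    have hia : inc F k (w.1.1, w.2) = 0 := by
      have h3 : ΨA.symm (inc F k (w.1.1, w.2)) = 0 := Subtype.ext ha0
      exact ΨA.symm.map_eq_zero_iff.mp h3
    have hib : inc F l (w.1.2, φ w.2) = 0 := by
      have h3 : ΨB.symm (inc F l (w.1.2, φ w.2)) = 0 := Subtype.ext hb0
      exact ΨB.symm.map_eq_zero_iff.mp h3
    have h11 : w.1.1 = 0 := by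
      funext i
      have h3 := congrFun hia (.inl (.inl i))
      rw [inc_ll] at h3
      exact h3
    have h2' : w.2 = 0 := by
      funext t
      have h3 := congrFun hia (.inr t)
      rw [inc_r] at h3
      exact h3
    have h12 : w.1.2 = 0 := by
      funext i
      have h3 := congrFun hib (.inl (.inl i))
      rw [inc_ll] at h3
      exact h3
    exact Prod.ext (Prod.ext h11 h12) h2'
  have hle := Cfsg.Agent.Lib.Helper44.Inv8.minus_ts_le hSV hab hTS
  rw [LinearMap.finrank_range_of_inj hLinj] at hle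
  have hdom : finrank F (((Fin k → F) × (Fin l → F)) × (Fin 2 → F)) = k + l + 2 := by
    simp
  rw [hdom] at hle
  omega

end Cfsg.Agent.Lib.Helper13.TwoMinusG
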