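import Mathlib
import Cfsg.Agent.Lib.Helper41.TMStmt
import Cfsg.Agent.Lib.Helper13.TwoMinusG

/-!
# S5987 / TWOMINUSG (call by helper41): hypothesis-free wrapper of the char-free
`Cfsg.Agent.Lib.Helper13.TwoMinusG.main` in the argument order of `TMStmt.TwoMinusG`.
-/

set_option autoImplicit false

universe u

namespace Cfsg.Agent.Lib.Helper13.TMTWOMINUSG

open Cfsg.Agent.Lib.Helper41.TMStmt

theorem main : TwoMinusG.{u} := by
  intro F _ _ a₀ b₀ hab d hd A B hA hB hperp hsup hev
  exact Cfsg.Agent.Lib.Helper13.TwoMinusG.main F d hd a₀ b₀ hab A B hA hB hperp hsup hev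

end Cfsg.Agent.Lib.Helper13.TMTWOMINUSG
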