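import Mathlib
import Cfsg.Agent.Lib.Lead.TuanStmt
import Cfsg.Agent.Lib.Helper78.BrCPerMul
import Cfsg.Agent.Lib.Helper78.BrCPerClass
import Cfsg.Agent.Lib.CT.Wedderburn

/-!
# S0997, part T, piece `GalAct`: the Galois exponent swaps `θ₁`, `θ₂` and fixes the other
irreducible characters
-/

set_option autoImplicit false

namespace Cfsg.Agent.Lib.Helper13.TSGalAct

open Cfsg Cfsg.Agent.Lib.Lead Cfsg.Agent.Lib.Lead.BrHalf Cfsg.Agent.Lib.Lead.Tuan
open scoped ComplexConjugate Classical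

universe u

/-- the period only depends on the quadratic class of a unit. -/
theorem per_congr (p : ℕ) [Fact p.Prime] (ζ : ℂ) (hζ : IsPrimitiveRoot ζ p) (u v : ℕ)
    (hu : ¬ p ∣ u) (hv : ¬ p ∣ v)
    (h : IsSquare ((u : ℕ) : ZMod p) ↔ IsSquare ((v : ℕ) : ZMod p)) :
    per p ζ u = per p ζ v := by
  have hPC := Helper78.BrCPerClass.main Helper78.BrCPerMul.main
  by_cases hsq : IsSquare ((u : ℕ) : ZMod p)
  · rw [(hPC p ζ hζ u 1 hu).1 hsq, (hPC p ζ hζ v 1 hv).1 (h.mp hsq)]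
  · exact (hPC p ζ hζ u v hu).2 hsq (fun h' => hsq (h.mpr h'))

theorem sq_mul_iff (p : ℕ) [Fact p.Prime] (a k v : ZMod p) (ha : a ≠ 0) (hk : ¬ IsSquare k)
    (hv : ¬ IsSquare v) : IsSquare (a * k) ↔ IsSquare (a * v) := by
  have hk0 : k ≠ 0 := fun h => hk (h ▸ IsSquare.zero)
  have hv0 : v ≠ 0 := fun h => hv (h ▸ IsSquare.zero)
  rw [← quadraticChar_one_iff_isSquare (mul_ne_zero ha hk0),
    ← quadraticChar_one_iff_isSquare (mul_ne_zero ha hv0), map_mul, map_mul,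
    quadraticChar_neg_one_iff_not_isSquare.mpr hk, quadraticChar_neg_one_iff_not_isSquare.mpr hv]

theorem sq_mul_mul_iff (p : ℕ) [Fact p.Prime] (a k v : ZMod p) (ha : a ≠ 0) (hk : ¬ IsSquare k)
    (hv : ¬ IsSquare v) : IsSquare (a * k * v) ↔ IsSquare a := by
  have hk0 : k ≠ 0 := fun h => hk (h ▸ IsSquare.zero)
  have hv0 : v ≠ 0 := fun h => hv (h ▸ IsSquare.zero)
  rw [← quadraticChar_one_iff_isSquare (mul_ne_zero (mul_ne_zero ha hk0) hv0),
    ← quadraticChar_one_iff_isSquare ha, map_mul, map_mul,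
    quadraticChar_neg_one_iff_not_isSquare.mpr hk, quadraticChar_neg_one_iff_not_isSquare.mpr hv]
  simp

theorem main (hOrdP : Tuan.OrdP.{u}) (hSing : Tuan.Sing.{u}) (hColX : Tuan.ColX.{u}) :
    Tuan.GalAct.{u} := by
  intro G _ _ p _ c k hk
  obtain ⟨hk1, hk2, hk3⟩ := hk
  have hpp : p.Prime := Fact.out
  have hcl : ∀ χ : IrrCharacter G, ∀ y h : G, (χ : G → ℂ) (h * y * h⁻¹) = (χ : G → ℂ) y :=
    fun χ y h => CT.Wedderburn.char_isClassFunction (CT.Wedderburn.isCharacter_of_irr χ.2) y h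
  have hk0 : ((k : ℕ) : ZMod p) ≠ 0 := fun h => hk2 (h ▸ IsSquare.zero)
  have hν0 : ((c.ν : ℕ) : ZMod p) ≠ 0 := fun h => c.hν (h ▸ IsSquare.zero)
  have hpk : ¬ p ∣ k := fun h => hk0 ((ZMod.natCast_eq_zero_iff k p).mpr h)
  have hpν : ¬ p ∣ c.ν := fun h => hν0 ((ZMod.natCast_eq_zero_iff c.ν p).mpr h)
  -- the singular case
  have key : ∀ g : G, p ∣ orderOf g → ∃ h : G, ∃ a : ℕ, ¬ p ∣ a ∧ g = h * c.x ^ a * h⁻¹ ∧
      g ^ k = h * c.x ^ (a * k) * h⁻¹ := by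
    intro g hg
    obtain ⟨h, a, ha, hga⟩ := hOrdP p c g (hSing p c g hg)
    refine ⟨h, a, ha, hga, ?_⟩
    rw [hga, conj_pow, ← pow_mul]
  refine ⟨?_, ?_, ?_⟩
  · intro g
    by_cases hg : p ∣ orderOf g
    · obtain ⟨h, a, ha, hga, hgk⟩ := key g hg
      have ha0 : ((a : ℕ) : ZMod p) ≠ 0 := fun h0 => ha ((ZMod.natCast_eq_zero_iff a p).mp h0)
      rw [hgk, hga, hcl, hcl, c.hθ₁, c.hθ₂]
      congr 1
      apply per_congr p c.ζ c.hζ
      · exact fun h0 => (hpp.dvd_mul.mp h0).elim ha hpk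
      · exact fun h0 => (hpp.dvd_mul.mp h0).elim ha hpν
      · push_cast
        exact sq_mul_iff p _ _ _ ha0 hk2 c.hν
    · rw [hk3 g hg]
      exact c.hreg g hg
  · intro g
    by_cases hg : p ∣ orderOf g
    · obtain ⟨h, a, ha, hga, hgk⟩ := key g hg
      have ha0 : ((a : ℕ) : ZMod p) ≠ 0 := fun h0 => ha ((ZMod.natCast_eq_zero_iff a p).mp h0)
      rw [hgk, hga, hcl, hcl, c.hθ₁, c.hθ₂]
      congr 1
      apply per_congr p c.ζ c.hζ
      · exact fun h0 => (hpp.dvd_mul.mp h0).elim (fun h1 => (hpp.dvd_mul.mp h1).elim ha hpk) hpν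
      · exact ha
      · push_cast
        exact sq_mul_mul_iff p _ _ _ ha0 hk2 c.hν
    · rw [hk3 g hg]
      exact (c.hreg g hg).symm
  · intro χ hχ1 hχ2 g
    by_cases hg : p ∣ orderOf g
    · obtain ⟨h, a, ha, hga, hgk⟩ := key g hg
      rw [hgk, hga, hcl, hcl]
      have hak : ¬ p ∣ a * k := fun h0 => (hpp.dvd_mul.mp h0).elim ha hpk
      by_cases hX : χ ∈ c.X
      · rw [c.hXval χ hX (a * k) hak, c.hXval χ hX a ha]
      · rw [hColX p c χ hX hχ1 hχ2 (a * k) hak, hColX p c χ hX hχ1 hχ2 a ha]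
    · rw [hk3 g hg]

end Cfsg.Agent.Lib.Helper13.TSGalAct
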