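import Mathlib
import Cfsg.Agent.Lib.Lead.TuanStmt

/-!
# S0997, part T, piece `MomId`: the norm identity for `(θ₁ - θ₂)² = θ₁² + θ₂² - 2 θ₁ θ₂`
-/

set_option autoImplicit false

namespace Cfsg.Agent.Lib.Helper13.TSMomId

open Cfsg Cfsg.Agent.Lib.Lead Cfsg.Agent.Lib.Lead.BrHalf Cfsg.Agent.Lib.Lead.Tuan
open scoped ComplexConjugate Classical

universe u

theorem main (hGal : Tuan.GalAct.{u}) (hReal : Tuan.Real.{u}) (hPars : Tuan.Pars.{u})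
    (hN4 : Tuan.Norm4.{u}) : Tuan.MomId.{u} := by
  intro G _ _ _ p _ c k hk m m' hm hm'
  obtain ⟨hg1, hg2, hg3⟩ := hGal p c k hk
  have hsw : ∀ ψ : IrrCharacter G, ∀ g : G,
      (ψ : G → ℂ) (g ^ k) = ((c.sw ψ : IrrCharacter G) : G → ℂ) g := by
    intro ψ g
    unfold TCtx.sw
    by_cases h1 : ψ = c.θ₁
    · rw [if_pos h1, h1]
      exact hg1 g
    · rw [if_neg h1]
      by_cases h2 : ψ = c.θ₂
      · rw [if_pos h2, h2]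
        exact hg2 g
      · rw [if_neg h2]
        exact hg3 ψ h1 h2 g
  have hinv : ∀ ψ : IrrCharacter G, c.sw (c.sw ψ) = ψ := by
    intro ψ
    unfold TCtx.sw
    by_cases h1 : ψ = c.θ₁
    · by_cases h2 : c.θ₂ = c.θ₁
      · simp [h1, h2]
      · simp [h1, h2]
    · by_cases h2 : ψ = c.θ₂
      · subst h2
        simp [h1]
      · simp [h1, h2]
  have h2 : ∀ g : G, (c.θ₂ : G → ℂ) g * (c.θ₂ : G → ℂ) g =
      ∑ ψ : IrrCharacter G, (m (c.sw ψ) : ℂ) * (ψ : G → ℂ) g := by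
    intro g
    rw [← hg1 g, hm (g ^ k)]
    have e1 : ∑ ψ : IrrCharacter G, (m ψ : ℂ) * (ψ : G → ℂ) (g ^ k) =
        ∑ ψ : IrrCharacter G, (m ψ : ℂ) * ((c.sw ψ : IrrCharacter G) : G → ℂ) g :=
      Finset.sum_congr rfl (fun ψ _ => by rw [hsw])
    rw [e1]
    exact Fintype.sum_equiv ⟨c.sw, c.sw, hinv, hinv⟩ _ _ (fun ψ => by
      show (m ψ : ℂ) * ((c.sw ψ : IrrCharacter G) : G → ℂ) g =
        (m (c.sw (c.sw ψ)) : ℂ) * ((c.sw ψ : IrrCharacter G) : G → ℂ) g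
      rw [hinv])
  obtain ⟨d, hd⟩ : ∃ d : IrrCharacter G → ℤ,
      d = fun ψ => (m ψ : ℤ) + (m (c.sw ψ) : ℤ) - 2 * (m' ψ : ℤ) := ⟨_, rfl⟩
  have h3 : ∀ g : G, ((c.θ₁ : G → ℂ) g - (c.θ₂ : G → ℂ) g) ^ 2 =
      ∑ ψ : IrrCharacter G, (d ψ : ℂ) * (ψ : G → ℂ) g := by
    intro g
    have e1 : ((c.θ₁ : G → ℂ) g - (c.θ₂ : G → ℂ) g) ^ 2 =
        (c.θ₁ : G → ℂ) g * (c.θ₁ : G → ℂ) g + (c.θ₂ : G → ℂ) g * (c.θ₂ : G → ℂ) g -
          2 * ((c.θ₁ : G → ℂ) g * (c.θ₂ : G → ℂ) g) := by ring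
    rw [e1, hm g, h2 g, hm' g, Finset.mul_sum, ← Finset.sum_add_distrib,
      ← Finset.sum_sub_distrib]
    apply Finset.sum_congr rfl
    intro ψ _
    rw [hd]
    push_cast
    ring
  have h4 := hPars d d
  have h5 : ∑ g : G, (∑ ψ : IrrCharacter G, (d ψ : ℂ) * (ψ : G → ℂ) g) *
      conj (∑ ψ : IrrCharacter G, (d ψ : ℂ) * (ψ : G → ℂ) g) =
      ∑ g : G, ((c.θ₁ : G → ℂ) g - (c.θ₂ : G → ℂ) g) ^ 4 := by
    apply Finset.sum_congr rfl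
    intro g _
    rw [← h3 g, map_pow, map_sub, (hReal p c g).1, (hReal p c g).2]
    ring
  rw [h5, hN4 p c] at h4
  have hG : (Nat.card G : ℂ) ≠ 0 := Nat.cast_ne_zero.mpr Nat.card_pos.ne'
  have h6 : (∑ ψ : IrrCharacter G, (d ψ : ℂ) * (d ψ : ℂ)) = 2 * (p : ℂ) := by
    apply mul_left_cancel₀ hG
    rw [← h4]
    ring
  have h7 : ((∑ ψ : IrrCharacter G, d ψ ^ 2 : ℤ) : ℂ) = ((2 * (p : ℤ) : ℤ) : ℂ) := by
    push_cast
    rw [← h6]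
    exact Finset.sum_congr rfl (fun ψ _ => by ring)
  have h8 : ∑ ψ : IrrCharacter G, d ψ ^ 2 = 2 * (p : ℤ) := by exact_mod_cast h7
  rw [hd] at h8
  exact h8

end Cfsg.Agent.Lib.Helper13.TSMomId
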