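import Mathlib
import Cfsg.Agent.Lib.Lead.TuanStmt
import Cfsg.Agent.Lib.Helper21.BrCPerSq
import Cfsg.Agent.Lib.CT.Wedderburn

/-!
# S0997, part T, piece `Norm4`: the fourth moment of `θ₁ - θ₂`
-/

set_option autoImplicit false

namespace Cfsg.Agent.Lib.Helper13.TSNorm4

open Cfsg Cfsg.Agent.Lib.Lead Cfsg.Agent.Lib.Lead.BrHalf Cfsg.Agent.Lib.Lead.Tuan
open scoped ComplexConjugate Classical

universe u

theorem main (hSing : Tuan.Sing.{u}) (hCountP : Tuan.CountP.{u}) : Tuan.Norm4.{u} := by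
  intro G _ _ p _ c
  have hpp : p.Prime := Fact.out
  have hp2 : p ≠ 2 := by
    have := c.hp
    omega
  have hp4 : p % 4 = 1 := by
    have h1 := c.hp
    have h2 := c.he
    have h3 := c.hj
    obtain ⟨i, hi⟩ : ∃ i, c.j = i + 2 := ⟨c.j - 2, by omega⟩
    rw [hi, pow_add] at h2
    omega
  obtain ⟨F, hF⟩ : ∃ F : G → ℂ, F = fun g => ((c.θ₁ : G → ℂ) g - (c.θ₂ : G → ℂ) g) ^ 4 :=
    ⟨_, rfl⟩
  have hFcl : IsClassFunction G F := by
    intro g h
    have h1 := CT.Wedderburn.char_isClassFunction (CT.Wedderburn.isCharacter_of_irr c.θ₁.2) g h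
    have h2 := CT.Wedderburn.char_isClassFunction (CT.Wedderburn.isCharacter_of_irr c.θ₂.2) g h
    rw [hF]
    simp only [h1, h2]
  have h1 : ∑ g : G, ((c.θ₁ : G → ℂ) g - (c.θ₂ : G → ℂ) g) ^ 4 =
      ∑ u : G, if orderOf u = p then F u else 0 := by
    apply Finset.sum_congr rfl
    intro g _
    by_cases hg : orderOf g = p
    · rw [if_pos hg, hF]
    · rw [if_neg hg]
      have hnd : ¬ p ∣ orderOf g := fun hd => hg (hSing p c g hd)
      rw [c.hreg g hnd, sub_self]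
      simp
  rw [h1, hCountP p c F hFcl]
  have h2 : ∀ a ∈ Finset.Ico 1 p, F (c.x ^ a) = (p : ℂ) ^ 2 := by
    intro a ha
    rw [Finset.mem_Ico] at ha
    have hpa : ¬ p ∣ a := fun hd => by
      have := Nat.le_of_dvd (by omega) hd
      omega
    have h3 := Helper21.BrCPerSq.main p hp2 c.ζ c.hζ a c.ν hpa c.hν
    rw [if_pos hp4] at h3
    rw [hF]
    simp only [c.hθ₁ a, c.hθ₂ a]
    have h4 : (1 + per p c.ζ a - (1 + per p c.ζ (a * c.ν))) ^ 4 =
        ((per p c.ζ a - per p c.ζ (a * c.ν)) ^ 2) ^ 2 := by ring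
    rw [h4, h3]
  rw [Finset.sum_congr rfl h2, Finset.sum_const, Nat.card_Ico, nsmul_eq_mul]
  have h5 : c.n * c.e = 2 ^ c.b * (c.e + 1) := c.hn
  have h6 : Nat.card G = c.n * c.e * p := by
    rw [c.hcard, h5]
    ring
  have h7 : p - 1 = 2 * c.e := by
    have := c.hp
    omega
  rw [h6, h7]
  push_cast
  ring

end Cfsg.Agent.Lib.Helper13.TSNorm4
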